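import Cfsg.Agent.Lib.Cert.Mod
import Cfsg.Agent.Lib.PermCert.PL

set_option autoImplicit false
set_option maxRecDepth 100000

namespace Cfsg.Agent.Ct.O82

open Cfsg.Agent.PC

open Cfsg.Agent.Fi Cfsg.Agent.Ct
namespace L1
def t0x : TN := (TN.leaf (nat_lit 337))
def tt : TN := (TN.node (TN.node (TN.node (TN.node t0x (TN.leaf (nat_lit 0))) (TN.node (TN.leaf (nat_lit 0)) (TN.leaf (nat_lit 0)))) (TN.node (TN.node (TN.leaf (nat_lit 0)) (TN.leaf (nat_lit 0))) (TN.node (TN.leaf (nat_lit 0)) (TN.leaf (nat_lit 0))))) (TN.node (TN.node (TN.node (TN.leaf (nat_lit 0)) (TN.leaf (nat_lit 0))) (TN.node (TN.leaf (nat_lit 0)) (TN.leaf (nat_lit 0)))) (TN.node (TN.node (TN.leaf (nat_lit 0)) (TN.leaf (nat_lit 0))) (TN.node (TN.leaf (nat_lit 0)) (TN.leaf (nat_lit 0))))))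
noncomputable def T (j c : ℕ) : ℕ := getL tt (nat_lit 5) (nat_lit 1) j c
noncomputable def E (j c : ℕ) : ℕ := getL tt (nat_lit 5) (nat_lit 31) j c
theorem T_eq (j c : ℕ) : T j c = E j c % 2 :=
  getL_mod (a := 1) (b := 5) _ _ (by norm_num) (by norm_num) (by norm_num) (by norm_num) j c
def rels : List (List ℕ) := []
def X_t : TN := (TN.leaf (nat_lit 0))
noncomputable def X (i : ℕ) : ℕ := get9 X_t (nat_lit 1) (nat_lit 1) i
def Jp_t : TN := (TN.leaf (nat_lit 0))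
noncomputable def Jp (i : ℕ) : ℕ := get9 Jp_t (nat_lit 1) (nat_lit 1) i
def J_t : TN := (TN.leaf (nat_lit 0))
noncomputable def J (k : ℕ) : ℕ := getV J_t Jp k
def Pa_t : TN := (TN.leaf (nat_lit 2048))
noncomputable def Pa (i : ℕ) : ℕ := get9 Pa_t (nat_lit 6) (nat_lit 63) i
def W_t : TL := (TL.leaf [])
noncomputable def W (i : ℕ) : List ℕ := TL.get W_t i
def WA_t : TL := (TL.leaf [nat_lit 0])
noncomputable def WA (i : ℕ) : List ℕ := TL.get WA_t i
noncomputable def row : ℕ → ℕ := hRow (nat_lit 1) (nat_lit 1) (nat_lit 0) (nat_lit 2) (nat_lit 4) (nat_lit 8) (nat_lit 32) (nat_lit 32) (nat_lit 0) E X Pa (fun j => j) (wfun (nat_lit 0) W_t)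
noncomputable def aux : ℕ → ℕ := hAux (nat_lit 2) (nat_lit 1) (nat_lit 2) (nat_lit 8) (nat_lit 32) (nat_lit 2) (nat_lit 2) (nat_lit 32) (nat_lit 0) E X J Pa (fun j => j) WA_t.get
theorem r0 : Nat.beq (rng row (nat_lit 0) (nat_lit 2)) (nat_lit 0) = true := by decide +kernel
theorem rows : ∀ i < 2, row i = 0 := by
  have h := zero_lt_zero row
  have h := zero_lt_add (a := (nat_lit 0)) (n := (nat_lit 2)) (b := (nat_lit 2)) h r0 rfl
  exact h
theorem auxs : ∀ i < 0, aux i = 0 := by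
  have h := zero_lt_zero aux
  exact h
theorem closes.{u} : ClosesT.{u} (fun j => j) rels 1 0 2 T :=
  hc_closes (N1 := (nat_lit 1)) rfl T_eq (by decide +kernel) rows auxs
theorem T_inv : ∀ c < 2, ∀ j < 1, T j c < 2 ∧ T j (T j c) = c := 
  hc_inv (inv := (fun j => j)) (N1 := (nat_lit 1)) rfl T_eq rows
end L1

namespace L2
def t0x : TN := (TN.leaf (nat_lit 0xc0e82ab62466488))
def t1x : TN := (TN.leaf (nat_lit 0xe0f34cd73a22101))
def t2x : TN := (TN.leaf (nat_lit 0x225952219341102))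
def t3x : TN := (TN.leaf (nat_lit 0x810898088841503))
def tt : TN := (TN.node (TN.node (TN.node (TN.node t0x (TN.leaf (nat_lit 0))) (TN.node (TN.leaf (nat_lit 0)) (TN.leaf (nat_lit 0)))) (TN.node (TN.node t2x (TN.leaf (nat_lit 0))) (TN.node (TN.leaf (nat_lit 0)) (TN.leaf (nat_lit 0))))) (TN.node (TN.node (TN.node t1x (TN.leaf (nat_lit 0))) (TN.node (TN.leaf (nat_lit 0)) (TN.leaf (nat_lit 0)))) (TN.node (TN.node t3x (TN.leaf (nat_lit 0))) (TN.node (TN.leaf (nat_lit 0)) (TN.leaf (nat_lit 0))))))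
noncomputable def T (j c : ℕ) : ℕ := getL tt (nat_lit 10) (nat_lit 7) j c
noncomputable def E (j c : ℕ) : ℕ := getL tt (nat_lit 10) (nat_lit 1023) j c
theorem T_eq (j c : ℕ) : T j c = E j c % 8 :=
  getL_mod (a := 3) (b := 10) _ _ (by norm_num) (by norm_num) (by norm_num) (by norm_num) j c
def rels : List (List ℕ) := [[nat_lit 2, nat_lit 2, nat_lit 2], [nat_lit 0, nat_lit 1, nat_lit 0, nat_lit 1], [nat_lit 0, nat_lit 2, nat_lit 0, nat_lit 2, nat_lit 0, nat_lit 2], [nat_lit 2, nat_lit 0, nat_lit 3, nat_lit 1, nat_lit 0]]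
def inv (i : ℕ) : ℕ := Nat.land (Nat.shiftRight (nat_lit 17608) (Nat.mul (nat_lit 3) i)) (nat_lit 7)
def X_t : TN := (TN.leaf (nat_lit 0))
noncomputable def X (i : ℕ) : ℕ := get9 X_t (nat_lit 1) (nat_lit 1) i
def Jp_t : TN := (TN.leaf (nat_lit 0))
noncomputable def Jp (i : ℕ) : ℕ := get9 Jp_t (nat_lit 1) (nat_lit 1) i
def J_t : TN := (TN.leaf (nat_lit 0))
noncomputable def J (k : ℕ) : ℕ := getV J_t Jp k
def Pa_t : TN := (TN.leaf (nat_lit 0x225134120d0200))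
noncomputable def Pa (i : ℕ) : ℕ := get9 Pa_t (nat_lit 9) (nat_lit 511) i
def W_t : TL := (TL.node (TL.node (TL.node (TL.leaf [nat_lit 2, nat_lit 2, nat_lit 3, nat_lit 3]) (TL.leaf [nat_lit 6151, nat_lit 1, nat_lit 0, nat_lit 2, nat_lit 0, nat_lit 3])) (TL.leaf [nat_lit 6147, nat_lit 0, nat_lit 3, nat_lit 1, nat_lit 0, nat_lit 2])) (TL.node (TL.node (TL.leaf [nat_lit 2049, nat_lit 0, nat_lit 1, nat_lit 0, nat_lit 1]) (TL.leaf [nat_lit 6148, nat_lit 1, nat_lit 2, nat_lit 0, nat_lit 3, nat_lit 0])) (TL.leaf [nat_lit 4100, nat_lit 0, nat_lit 3, nat_lit 0, nat_lit 3, nat_lit 0, nat_lit 3])))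
noncomputable def W (i : ℕ) : List ℕ := TL.get W_t i
def WA_t : TL := (TL.leaf [nat_lit 0])
noncomputable def WA (i : ℕ) : List ℕ := TL.get WA_t i
noncomputable def row : ℕ → ℕ := hRow (nat_lit 5) (nat_lit 4) (nat_lit 1) (nat_lit 8) (nat_lit 16) (nat_lit 128) (nat_lit 128) (nat_lit 128) (nat_lit 0) E X Pa inv (wfun (nat_lit 6) W_t)
noncomputable def aux : ℕ → ℕ := hAux (nat_lit 6) (nat_lit 4) (nat_lit 8) (nat_lit 128) (nat_lit 128) (nat_lit 2) (nat_lit 2) (nat_lit 128) (nat_lit 0) E X J Pa inv WA_t.get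
theorem r0 : Nat.beq (rng row (nat_lit 0) (nat_lit 6)) (nat_lit 0) = true := by decide +kernel
theorem rows : ∀ i < 6, row i = 0 := by
  have h := zero_lt_zero row
  have h := zero_lt_add (a := (nat_lit 0)) (n := (nat_lit 6)) (b := (nat_lit 6)) h r0 rfl
  exact h
theorem auxs : ∀ i < 0, aux i = 0 := by
  have h := zero_lt_zero aux
  exact h
theorem closes.{u} : ClosesT.{u} inv rels 4 1 6 T :=
  hc_closes (N1 := (nat_lit 5)) rfl T_eq (by decide +kernel) rows auxs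
theorem T_inv : ∀ c < 6, ∀ j < 4, T j c < 6 ∧ T (inv j) (T j c) = c := 
  hc_inv (inv := inv) (N1 := (nat_lit 5)) rfl T_eq rows
end L2

namespace L3
def t0x : TN := (TN.leaf (nat_lit 0x2036708940888))
def t1x : TN := (TN.leaf (nat_lit 0x8a2250440c88))
def t2x : TN := (TN.leaf (nat_lit 0x282e12b380488))
def t3x : TN := (TN.leaf (nat_lit 0x33bc0a2c64500))
def t4x : TN := (TN.leaf (nat_lit 0x343e11a222101))
def tt : TN := (TN.node (TN.node (TN.node (TN.node t0x (TN.leaf (nat_lit 0))) (TN.node t4x (TN.leaf (nat_lit 0)))) (TN.node (TN.node t2x (TN.leaf (nat_lit 0))) (TN.node (TN.leaf (nat_lit 0)) (TN.leaf (nat_lit 0))))) (TN.node (TN.node (TN.node t1x (TN.leaf (nat_lit 0))) (TN.node (TN.leaf (nat_lit 0)) (TN.leaf (nat_lit 0)))) (TN.node (TN.node t3x (TN.leaf (nat_lit 0))) (TN.node (TN.leaf (nat_lit 0)) (TN.leaf (nat_lit 0))))))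
noncomputable def T (j c : ℕ) : ℕ := getL tt (nat_lit 10) (nat_lit 7) j c
noncomputable def E (j c : ℕ) : ℕ := getL tt (nat_lit 10) (nat_lit 1023) j c
theorem T_eq (j c : ℕ) : T j c = E j c % 8 :=
  getL_mod (a := 3) (b := 10) _ _ (by norm_num) (by norm_num) (by norm_num) (by norm_num) j c
def rels : List (List ℕ) := [[nat_lit 2, nat_lit 2, nat_lit 2], [nat_lit 0, nat_lit 1, nat_lit 0, nat_lit 1], [nat_lit 0, nat_lit 2, nat_lit 0, nat_lit 2, nat_lit 0, nat_lit 2], [nat_lit 2, nat_lit 0, nat_lit 3, nat_lit 1, nat_lit 0], [nat_lit 0, nat_lit 4, nat_lit 0, nat_lit 4, nat_lit 0, nat_lit 4], [nat_lit 2, nat_lit 4, nat_lit 2, nat_lit 4]]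
def inv (i : ℕ) : ℕ := Nat.land (Nat.shiftRight (nat_lit 181448) (Nat.mul (nat_lit 3) i)) (nat_lit 7)
def X_t : TN := (TN.leaf (nat_lit 0))
noncomputable def X (i : ℕ) : ℕ := get9 X_t (nat_lit 1) (nat_lit 1) i
def Jp_t : TN := (TN.leaf (nat_lit 0))
noncomputable def Jp (i : ℕ) : ℕ := get9 Jp_t (nat_lit 1) (nat_lit 1) i
def J_t : TN := (TN.leaf (nat_lit 0))
noncomputable def J (k : ℕ) : ℕ := getV J_t Jp k
def Pa_t : TN := (TN.leaf (nat_lit 0x1a188c410800))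
noncomputable def Pa (i : ℕ) : ℕ := get9 Pa_t (nat_lit 9) (nat_lit 511) i
def W_t : TL := (TL.node (TL.node (TL.node (TL.leaf [nat_lit 10241, nat_lit 3, nat_lit 4, nat_lit 2, nat_lit 4]) (TL.leaf [nat_lit 4098, nat_lit 2, nat_lit 0, nat_lit 3, nat_lit 0, nat_lit 3, nat_lit 0])) (TL.node (TL.leaf [nat_lit 8195, nat_lit 4, nat_lit 0, nat_lit 4, nat_lit 0, nat_lit 4, nat_lit 0]) (TL.leaf [nat_lit 10243, nat_lit 4, nat_lit 2, nat_lit 4, nat_lit 2]))) (TL.node (TL.node (TL.leaf [nat_lit 2049, nat_lit 0, nat_lit 1, nat_lit 0, nat_lit 1]) (TL.leaf [nat_lit 1, nat_lit 3, nat_lit 2, nat_lit 2])) (TL.leaf [nat_lit 6150, nat_lit 3, nat_lit 0, nat_lit 3, nat_lit 0, nat_lit 1])))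
noncomputable def W (i : ℕ) : List ℕ := TL.get W_t i
def WA_t : TL := (TL.leaf [nat_lit 0])
noncomputable def WA (i : ℕ) : List ℕ := TL.get WA_t i
noncomputable def row : ℕ → ℕ := hRow (nat_lit 4) (nat_lit 5) (nat_lit 4) (nat_lit 8) (nat_lit 16) (nat_lit 128) (nat_lit 128) (nat_lit 128) (nat_lit 0) E X Pa inv (wfun (nat_lit 7) W_t)
noncomputable def aux : ℕ → ℕ := hAux (nat_lit 5) (nat_lit 5) (nat_lit 8) (nat_lit 128) (nat_lit 128) (nat_lit 2) (nat_lit 2) (nat_lit 128) (nat_lit 0) E X J Pa inv WA_t.get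
theorem r0 : Nat.beq (rng row (nat_lit 0) (nat_lit 5)) (nat_lit 0) = true := by decide +kernel
theorem rows : ∀ i < 5, row i = 0 := by
  have h := zero_lt_zero row
  have h := zero_lt_add (a := (nat_lit 0)) (n := (nat_lit 5)) (b := (nat_lit 5)) h r0 rfl
  exact h
theorem auxs : ∀ i < 0, aux i = 0 := by
  have h := zero_lt_zero aux
  exact h
theorem closes.{u} : ClosesT.{u} inv rels 5 4 5 T :=
  hc_closes (N1 := (nat_lit 4)) rfl T_eq (by decide +kernel) rows auxs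
theorem T_inv : ∀ c < 5, ∀ j < 5, T j c < 5 ∧ T (inv j) (T j c) = c := 
  hc_inv (inv := inv) (N1 := (nat_lit 4)) rfl T_eq rows
end L3

namespace L4
def t0x : TN := (TN.leaf (nat_lit 0x507223d01863d10bc025e14a38205b811806cc6552a208c62210))
def t1x : TN := (TN.leaf (nat_lit 0x10e887081e40ea054cee1cf4e8904c011dcaee67798844804210))
def t2x : TN := (TN.leaf (nat_lit 0xc06f03f2dd60cba5a82500f2083350848c4c2113121014806210))
def t3x : TN := (TN.leaf (nat_lit 0xdbf6836ebf52cc05a01d0b512832ca0144248031089018808400))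
def t4x : TN := (TN.leaf (nat_lit 0xdc7703d89a80855d885842a64c1091028812a0344a101cc82210))
def t5x : TN := (TN.leaf (nat_lit 0xf0771fc436217206c8262342122064015dac80333a1020420401))
def tt : TN := (TN.node (TN.node (TN.node (TN.node t0x (TN.leaf (nat_lit 0))) (TN.node t4x (TN.leaf (nat_lit 0)))) (TN.node (TN.node t2x (TN.leaf (nat_lit 0))) (TN.node (TN.leaf (nat_lit 0)) (TN.leaf (nat_lit 0))))) (TN.node (TN.node (TN.node t1x (TN.leaf (nat_lit 0))) (TN.node t5x (TN.leaf (nat_lit 0)))) (TN.node (TN.node t3x (TN.leaf (nat_lit 0))) (TN.node (TN.leaf (nat_lit 0)) (TN.leaf (nat_lit 0))))))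
noncomputable def T (j c : ℕ) : ℕ := getL tt (nat_lit 13) (nat_lit 15) j c
noncomputable def E (j c : ℕ) : ℕ := getL tt (nat_lit 13) (nat_lit 8191) j c
theorem T_eq (j c : ℕ) : T j c = E j c % 16 :=
  getL_mod (a := 4) (b := 13) _ _ (by norm_num) (by norm_num) (by norm_num) (by norm_num) j c
def rels : List (List ℕ) := [[nat_lit 2, nat_lit 2, nat_lit 2], [nat_lit 0, nat_lit 1, nat_lit 0, nat_lit 1], [nat_lit 0, nat_lit 2, nat_lit 0, nat_lit 2, nat_lit 0, nat_lit 2], [nat_lit 2, nat_lit 0, nat_lit 3, nat_lit 1, nat_lit 0], [nat_lit 0, nat_lit 4, nat_lit 0, nat_lit 4, nat_lit 0, nat_lit 4], [nat_lit 2, nat_lit 4, nat_lit 2, nat_lit 4], [nat_lit 0, nat_lit 5, nat_lit 0, nat_lit 5], [nat_lit 2, nat_lit 5, nat_lit 2, nat_lit 5, nat_lit 2, nat_lit 5], [nat_lit 4, nat_lit 5, nat_lit 4, nat_lit 5]]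
def inv (i : ℕ) : ℕ := Nat.land (Nat.shiftRight (nat_lit 0x1ac4c8) (Nat.mul (nat_lit 3) i)) (nat_lit 7)
def X_t : TN := (TN.leaf (nat_lit 0))
noncomputable def X (i : ℕ) : ℕ := get9 X_t (nat_lit 1) (nat_lit 1) i
def Jp_t : TN := (TN.leaf (nat_lit 0))
noncomputable def Jp (i : ℕ) : ℕ := get9 Jp_t (nat_lit 1) (nat_lit 1) i
def J_t : TN := (TN.leaf (nat_lit 0))
noncomputable def J (k : ℕ) : ℕ := getV J_t Jp k
def Pa_t : TN := (TN.leaf (nat_lit 0xda3706dac758e11922a325648c8991a1242684482800))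
noncomputable def Pa (i : ℕ) : ℕ := get9 Pa_t (nat_lit 11) (nat_lit 2047) i
def W_t : TL := (TL.node (TL.node (TL.node (TL.node (TL.node (TL.leaf [nat_lit 2, nat_lit 2, nat_lit 3, nat_lit 3]) (TL.leaf [nat_lit 14337, nat_lit 3, nat_lit 5, nat_lit 2, nat_lit 5, nat_lit 2, nat_lit 5])) (TL.leaf [nat_lit 6147, nat_lit 0, nat_lit 3, nat_lit 1, nat_lit 0, nat_lit 2])) (TL.node (TL.node (TL.leaf [nat_lit 10244, nat_lit 2, nat_lit 4, nat_lit 3, nat_lit 4]) (TL.leaf [nat_lit 4098, nat_lit 2, nat_lit 0, nat_lit 3, nat_lit 0, nat_lit 3, nat_lit 0])) (TL.leaf [nat_lit 6151, nat_lit 1, nat_lit 0, nat_lit 2, nat_lit 0, nat_lit 3]))) (TL.node (TL.node (TL.node (TL.leaf [nat_lit 16385, nat_lit 4, nat_lit 5, nat_lit 4, nat_lit 5]) (TL.leaf [nat_lit 6149, nat_lit 2, nat_lit 1, nat_lit 0, nat_lit 2, nat_lit 0])) (TL.leaf [nat_lit 4100, nat_lit 0, nat_lit 3, nat_lit 0, nat_lit 3, nat_lit 0, nat_lit 3])) (TL.node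 (TL.node (TL.leaf [nat_lit 2049, nat_lit 0, nat_lit 1, nat_lit 0, nat_lit 1]) (TL.leaf [nat_lit 10243, nat_lit 4, nat_lit 2, nat_lit 4, nat_lit 2])) (TL.leaf [nat_lit 8193, nat_lit 0, nat_lit 4, nat_lit 0, nat_lit 4, nat_lit 0, nat_lit 4])))) (TL.node (TL.node (TL.node (TL.node (TL.leaf [nat_lit 12289, nat_lit 0, nat_lit 5, nat_lit 0, nat_lit 5]) (TL.leaf [nat_lit 2051, nat_lit 1, nat_lit 0, nat_lit 1, nat_lit 0])) (TL.leaf [nat_lit 8195, nat_lit 4, nat_lit 0, nat_lit 4, nat_lit 0, nat_lit 4, nat_lit 0])) (TL.node (TL.node (TL.leaf [nat_lit 14338, nat_lit 5, nat_lit 3, nat_lit 5, nat_lit 3, nat_lit 5, nat_lit 3]) (TL.leaf [nat_lit 1, nat_lit 3, nat_lit 2, nat_lit 2])) (TL.leaf [nat_lit 6148, nat_lit 1, nat_lit 2, nat_lit 0, nat_lit 3, nat_lit 0]))) (TL.node (TL.node (TL.node (TL.leaf [nat_lit 10241, nat_lit 3, nat_lit 4, nat_lit 2, nat_lit 4]) (TL.leaf [nat_lit 6150, nat_lit 3, nat_lit 0, nat_lit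 3, nat_lit 0, nat_lit 1])) (TL.leaf [nat_lit 12291, nat_lit 5, nat_lit 0, nat_lit 5, nat_lit 0])) (TL.node (TL.leaf [nat_lit 10242, nat_lit 4, nat_lit 3, nat_lit 4, nat_lit 3]) (TL.leaf [nat_lit 16387, nat_lit 5, nat_lit 4, nat_lit 5, nat_lit 4])))))
noncomputable def W (i : ℕ) : List ℕ := TL.get W_t i
def WA_t : TL := (TL.leaf [nat_lit 0])
noncomputable def WA (i : ℕ) : List ℕ := TL.get WA_t i
noncomputable def row : ℕ → ℕ := hRow (nat_lit 15) (nat_lit 6) (nat_lit 5) (nat_lit 16) (nat_lit 32) (nat_lit 512) (nat_lit 256) (nat_lit 256) (nat_lit 0) E X Pa inv (wfun (nat_lit 23) W_t)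
noncomputable def aux : ℕ → ℕ := hAux (nat_lit 16) (nat_lit 6) (nat_lit 16) (nat_lit 512) (nat_lit 256) (nat_lit 2) (nat_lit 2) (nat_lit 256) (nat_lit 0) E X J Pa inv WA_t.get
theorem r0 : Nat.beq (rng row (nat_lit 0) (nat_lit 16)) (nat_lit 0) = true := by decide +kernel
theorem rows : ∀ i < 16, row i = 0 := by
  have h := zero_lt_zero row
  have h := zero_lt_add (a := (nat_lit 0)) (n := (nat_lit 16)) (b := (nat_lit 16)) h r0 rfl
  exact h
theorem auxs : ∀ i < 0, aux i = 0 := by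
  have h := zero_lt_zero aux
  exact h
theorem closes.{u} : ClosesT.{u} inv rels 6 5 16 T :=
  hc_closes (N1 := (nat_lit 15)) rfl T_eq (by decide +kernel) rows auxs
theorem T_inv : ∀ c < 16, ∀ j < 6, T j c < 16 ∧ T (inv j) (T j c) = c := 
  hc_inv (inv := inv) (N1 := (nat_lit 15)) rfl T_eq rows
end L4

namespace L5
def t0x : TN := (TN.leaf (nat_lit 0x43ba28142813581650f7082f20792178200e50104871101518f20825480b43ac286a28e93804300320e6100d33082a67216218610820))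
def t1x : TN := (TN.leaf (nat_lit 0x9a5a881708328259881470108396082e1018600f6c555cb11013580c544d4a45524a524940043a473246500b3a483b83082110020820))
def t2x : TN := (TN.leaf (nat_lit 0x901a801940128016481470113b57501843f330107495580f380e648d280b2005480a480908221848280618ac08211844100710030820))
def t3x : TN := (TN.leaf (nat_lit 0x889a7a194c13401479d77810433648123af86cd52a11508f31ce680d2005208c420a41c92007082221c6188b20030821100810041000))
def t4x : TN := (TN.leaf (nat_lit 0x839101a4c33301628d731f53a34501828d228102231082a200621ed08240823100f30c9380732c818ce0821100c100b2aa210050820))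
def t5x : TN := (TN.leaf (nat_lit 0x919a8c79781308310830637553d474f8082d10171016598f08251012280b218c546a082240073b680821100e20031944100910060820))
def t6x : TN := (TN.leaf (nat_lit 0x313a083278138a96901739b5082e75181019082c082b312f101421ad1011101008225289400739a83286192520031904100a08201001))
def tt : TN := (TN.node (TN.node (TN.node (TN.node t0x (TN.leaf (nat_lit 0))) (TN.node t4x (TN.leaf (nat_lit 0)))) (TN.node (TN.node t2x (TN.leaf (nat_lit 0))) (TN.node t6x (TN.leaf (nat_lit 0))))) (TN.node (TN.node (TN.node t1x (TN.leaf (nat_lit 0))) (TN.node t5x (TN.leaf (nat_lit 0)))) (TN.node (TN.node t3x (TN.leaf (nat_lit 0))) (TN.node (TN.leaf (nat_lit 0)) (TN.leaf (nat_lit 0))))))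
noncomputable def T (j c : ℕ) : ℕ := getL tt (nat_lit 16) (nat_lit 31) j c
noncomputable def E (j c : ℕ) : ℕ := getL tt (nat_lit 16) (nat_lit 65535) j c
theorem T_eq (j c : ℕ) : T j c = E j c % 32 :=
  getL_mod (a := 5) (b := 16) _ _ (by norm_num) (by norm_num) (by norm_num) (by norm_num) j c
def rels : List (List ℕ) := [[nat_lit 2, nat_lit 2, nat_lit 2], [nat_lit 0, nat_lit 1, nat_lit 0, nat_lit 1], [nat_lit 0, nat_lit 2, nat_lit 0, nat_lit 2, nat_lit 0, nat_lit 2], [nat_lit 2, nat_lit 0, nat_lit 3, nat_lit 1, nat_lit 0], [nat_lit 0, nat_lit 4, nat_lit 0, nat_lit 4, nat_lit 0, nat_lit 4], [nat_lit 2, nat_lit 4, nat_lit 2, nat_lit 4], [nat_lit 0, nat_lit 5, nat_lit 0, nat_lit 5], [nat_lit 2, nat_lit 5, nat_lit 2, nat_lit 5, nat_lit 2, nat_lit 5], [nat_lit 4, nat_lit 5, nat_lit 4, nat_lit 5], [nat_lit 0, nat_lit 6, nat_lit 0, nat_lit 6], [nat_lit 2, nat_lit 6, nat_lit 2, nat_lit 6, nat_lit 2,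 nat_lit 6], [nat_lit 4, nat_lit 6, nat_lit 4, nat_lit 6, nat_lit 4, nat_lit 6], [nat_lit 6, nat_lit 1, nat_lit 4, nat_lit 1, nat_lit 6, nat_lit 0, nat_lit 1, nat_lit 4, nat_lit 0, nat_lit 1], [nat_lit 6, nat_lit 2, nat_lit 5, nat_lit 2, nat_lit 6, nat_lit 2, nat_lit 5, nat_lit 2]]
def inv (i : ℕ) : ℕ := Nat.land (Nat.shiftRight (nat_lit 0xfac4c8) (Nat.mul (nat_lit 3) i)) (nat_lit 7)
def X_t : TN := (TN.leaf (nat_lit 0))
noncomputable def X (i : ℕ) : ℕ := get9 X_t (nat_lit 1) (nat_lit 1) i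
def Jp_t : TN := (TN.leaf (nat_lit 0))
noncomputable def Jp (i : ℕ) : ℕ := get9 Jp_t (nat_lit 1) (nat_lit 1) i
def J_t : TN := (TN.leaf (nat_lit 0))
noncomputable def J (k : ℕ) : ℕ := getV J_t Jp k
def Pa_t : TN := (TN.leaf (nat_lit 0xd94b26b21b15b05af08e68e18d58c68b68a4655650644634626625622623415414412413411206000))
noncomputable def Pa (i : ℕ) : ℕ := get9 Pa_t (nat_lit 12) (nat_lit 4095) i
def W_t : TL := (TL.node (TL.node (TL.node (TL.node (TL.node (TL.node (TL.leaf [nat_lit 2, nat_lit 2, nat_lit 3, nat_lit 3]) (TL.leaf [nat_lit 2051, nat_lit 1, nat_lit 0, nat_lit 1, nat_lit 0])) (TL.leaf [nat_lit 6151, nat_lit 1, nat_lit 0, nat_lit 2, nat_lit 0, nat_lit 3])) (TL.node (TL.leaf [nat_lit 26628, nat_lit 5, nat_lit 3, nat_lit 6, nat_lit 3, nat_lit 5, nat_lit 3, nat_lit 6, nat_lit 3]) (TL.leaf [nat_lit 26630, nat_lit 2, nat_lit 6, nat_lit 3, nat_lit 5, nat_lit 3, nat_lit 6, nat_lit 3, nat_lit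 5]))) (TL.node (TL.node (TL.node (TL.leaf [nat_lit 16385, nat_lit 4, nat_lit 5, nat_lit 4, nat_lit 5]) (TL.leaf [nat_lit 6145, nat_lit 3, nat_lit 0, nat_lit 3, nat_lit 1, nat_lit 0])) (TL.leaf [nat_lit 10242, nat_lit 4, nat_lit 3, nat_lit 4, nat_lit 3])) (TL.node (TL.leaf [nat_lit 14337, nat_lit 3, nat_lit 5, nat_lit 2, nat_lit 5, nat_lit 2, nat_lit 5]) (TL.leaf [nat_lit 14339, nat_lit 5, nat_lit 2, nat_lit 5, nat_lit 2, nat_lit 5, nat_lit 2])))) (TL.node (TL.node (TL.node (TL.node (TL.leaf [nat_lit 10241, nat_lit 3, nat_lit 4, nat_lit 2, nat_lit 4]) (TL.leaf [nat_lit 6149, nat_lit 2, nat_lit 1, nat_lit 0, nat_lit 2, nat_lit 0])) (TL.leaf [nat_lit 26625, nat_lit 6, nat_lit 2, nat_lit 5, nat_lit 2, nat_lit 6, nat_lit 2, nat_lit 5, nat_lit 2])) (TL.node (TL.leaf [nat_lit 16387, nat_lit 5, nat_lit 4, nat_lit 5, nat_lit 4]) (TL.leaf [nat_lit 6148, nat_lit 1, nat_lit 2, nat_lit 0, nat_lit 3, nat_lit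 0]))) (TL.node (TL.node (TL.node (TL.leaf [nat_lit 20482, nat_lit 6, nat_lit 3, nat_lit 6, nat_lit 3, nat_lit 6, nat_lit 3]) (TL.leaf [nat_lit 26632, nat_lit 6, nat_lit 3, nat_lit 5, nat_lit 3, nat_lit 6, nat_lit 3, nat_lit 5, nat_lit 3])) (TL.leaf [nat_lit 4100, nat_lit 0, nat_lit 3, nat_lit 0, nat_lit 3, nat_lit 0, nat_lit 3])) (TL.node (TL.leaf [nat_lit 20481, nat_lit 3, nat_lit 6, nat_lit 2, nat_lit 6, nat_lit 2, nat_lit 6]) (TL.leaf [nat_lit 1, nat_lit 3, nat_lit 2, nat_lit 2]))))) (TL.node (TL.node (TL.node (TL.node (TL.node (TL.leaf [nat_lit 18433, nat_lit 0, nat_lit 6, nat_lit 0, nat_lit 6]) (TL.leaf [nat_lit 26629, nat_lit 5, nat_lit 2, nat_lit 6, nat_lit 2, nat_lit 5, nat_lit 2, nat_lit 6, nat_lit 2])) (TL.leaf [nat_lit 6147, nat_lit 0, nat_lit 3, nat_lit 1, nat_lit 0, nat_lit 2])) (TL.node (TL.leaf [nat_lit 2049, nat_lit 0, nat_lit 1, nat_lit 0, nat_lit 1]) (TL.leaf [nat_lit 12291,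 nat_lit 5, nat_lit 0, nat_lit 5, nat_lit 0]))) (TL.node (TL.node (TL.node (TL.leaf [nat_lit 12289, nat_lit 0, nat_lit 5, nat_lit 0, nat_lit 5]) (TL.leaf [nat_lit 14338, nat_lit 5, nat_lit 3, nat_lit 5, nat_lit 3, nat_lit 5, nat_lit 3])) (TL.leaf [nat_lit 6150, nat_lit 3, nat_lit 0, nat_lit 3, nat_lit 0, nat_lit 1])) (TL.node (TL.leaf [nat_lit 8195, nat_lit 4, nat_lit 0, nat_lit 4, nat_lit 0, nat_lit 4, nat_lit 0]) (TL.leaf [nat_lit 4098, nat_lit 2, nat_lit 0, nat_lit 3, nat_lit 0, nat_lit 3, nat_lit 0])))) (TL.node (TL.node (TL.node (TL.node (TL.leaf [nat_lit 10244, nat_lit 2, nat_lit 4, nat_lit 3, nat_lit 4]) (TL.leaf [nat_lit 24589, nat_lit 1, nat_lit 4, nat_lit 0, nat_lit 1, nat_lit 6, nat_lit 1, nat_lit 4, nat_lit 1, nat_lit 6, nat_lit 0])) (TL.leaf [nat_lit 24591, nat_lit 4, nat_lit 0, nat_lit 1, nat_lit 6, nat_lit 1, nat_lit 4, nat_lit 1, nat_lit 6, nat_lit 0, nat_lit 1])) (TL.node (TL.leaf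 [nat_lit 18435, nat_lit 6, nat_lit 0, nat_lit 6, nat_lit 0]) (TL.leaf [nat_lit 8193, nat_lit 0, nat_lit 4, nat_lit 0, nat_lit 4, nat_lit 0, nat_lit 4]))) (TL.node (TL.node (TL.leaf [nat_lit 22531, nat_lit 6, nat_lit 4, nat_lit 6, nat_lit 4, nat_lit 6, nat_lit 4]) (TL.leaf [nat_lit 26631, nat_lit 3, nat_lit 6, nat_lit 2, nat_lit 5, nat_lit 2, nat_lit 6, nat_lit 2, nat_lit 5])) (TL.node (TL.leaf [nat_lit 22529, nat_lit 4, nat_lit 6, nat_lit 4, nat_lit 6, nat_lit 4, nat_lit 6]) (TL.leaf [nat_lit 10243, nat_lit 4, nat_lit 2, nat_lit 4, nat_lit 2]))))))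
noncomputable def W (i : ℕ) : List ℕ := TL.get W_t i
def WA_t : TL := (TL.leaf [nat_lit 0])
noncomputable def WA (i : ℕ) : List ℕ := TL.get WA_t i
noncomputable def row : ℕ → ℕ := hRow (nat_lit 26) (nat_lit 7) (nat_lit 6) (nat_lit 32) (nat_lit 64) (nat_lit 2048) (nat_lit 512) (nat_lit 512) (nat_lit 0) E X Pa inv (wfun (nat_lit 39) W_t)
noncomputable def aux : ℕ → ℕ := hAux (nat_lit 27) (nat_lit 7) (nat_lit 32) (nat_lit 2048) (nat_lit 512) (nat_lit 2) (nat_lit 2) (nat_lit 512) (nat_lit 0) E X J Pa inv WA_t.get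
theorem r0 : Nat.beq (rng row (nat_lit 0) (nat_lit 27)) (nat_lit 0) = true := by decide +kernel
theorem rows : ∀ i < 27, row i = 0 := by
  have h := zero_lt_zero row
  have h := zero_lt_add (a := (nat_lit 0)) (n := (nat_lit 27)) (b := (nat_lit 27)) h r0 rfl
  exact h
theorem auxs : ∀ i < 0, aux i = 0 := by
  have h := zero_lt_zero aux
  exact h
theorem closes.{u} : ClosesT.{u} inv rels 7 6 27 T :=
  hc_closes (N1 := (nat_lit 26)) rfl T_eq (by decide +kernel) rows auxs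
theorem T_inv : ∀ c < 27, ∀ j < 7, T j c < 27 ∧ T (inv j) (T j c) = c := 
  hc_inv (inv := inv) (N1 := (nat_lit 26)) rfl T_eq rows
end L5

namespace L6
def t0x : TN := (TN.leaf (nat_lit 0x6c96e280d441bb0803158866081a0309a0206758054b00a48096900ec040c6a84bd507704032080600817550110e36408056a1294102b8e1201c1be4005420131e01b3983808148608c8c013080423045873ef0c354142301006852488a00b1491e2802850669640c106a020d384003080051080e1842430640e00318b0808104200102040))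
def t1x : TN := (TN.leaf (nat_lit 0xa58ee081d010388403690de6f00a8201ac002970dd0f439da376b46ec60046eb9c9f7383a02f7c05ca39999010820595cd560815d8352b26e064dbeab97936ce9e018040a67804820121c6dc0804491b59474a8204d0803671a690628820494589e08120200a186cc0408c0811420080400e20d8e1002c20050e6820408240010200182040))
def t2x : TN := (TN.leaf (nat_lit 0xa006f180d2501b448b58c066fbbca2018c2ef07005102f9d9016b202c5c048daebdb81734faa80052abbad95f0aaee658032b359577b1300206003ec006916b18205345536b0051444e9ebdc4802e88058f0090401e3573068034f008940094001e58020200a9600c3002068038944596a8a1c00e48018a0028c0031000228008200202040))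
def t3x : TN := (TN.leaf (nat_lit 0x9d6ef20ed6301a447b688ae7000ca1398c403070054e00a58396b082c5804cd80a1f893b672f8405cb009170112cf2b4803ac0085a012ae7205d03e08151500ca001848036b8a7951519c013456ae81c581026aa1da0803870a54e5a89638b3d69e60a28c2a91454c280126002093c81478e18a8e41c189402820411450820e0830e184000))
def t4x : TN := (TN.leaf (nat_lit 0x9c16f400d6753b4c974040e0e97ca5016040338004cd80a5d4b6c817178054ea9ada0b7380245414efa5bda011360a84403ac829462f0b601b502bec00690051a2a5c69fc0b8b7954aca00131401e6a558d00726dd43d2b008128b0489800b1012e60b544004020462d4a010048a4a48614d040841003040a28c003145881001c304082040))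
def t5x : TN := (TN.leaf (nat_lit 0x989ef380d6659b4a0325d267219d240142c6707615408195a436820644c04cf00bc103146871549ce919ac20170402c4803a100a46330b2860040a8800691271a4b1c4ccb679978f008a2010149ae92158f0090401f2401673254e66ca09181099e7002810239690c20ea66ac38b324820420801a521181020900031ce8810020200282040))
def t6x : TN := (TN.leaf (nat_lit 0x24a6f280d644db02070951e6b28c8103384034040caec1a41032349ec4404c08189e0172a52808062828ac20178402d4003a100a9551082054653be80068f291a299c494367a87810278204e50a2e08134f00904020040947275442889800b0803210060200b0844c2d3201004c102118a082518e08104b4e28e00318c0810024200302040))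
def t7x : TN := (TN.leaf (nat_lit 0x40e92abd6601b0403724666406c9a138901b054054a80a58136b022c1c04ca09bd411702060040be306ac102d2e01b040b09807860d0840280804e92b881029a0d1c595c810094d12c840230409a9b859000928d140803a78c54102498acb040906ab28200b8830c340207003820088400f1060e1891831028c0031478818608102004001))
def tt : TN := (TN.node (TN.node (TN.node (TN.node t0x (TN.leaf (nat_lit 0))) (TN.node t4x (TN.leaf (nat_lit 0)))) (TN.node (TN.node t2x (TN.leaf (nat_lit 0))) (TN.node t6x (TN.leaf (nat_lit 0))))) (TN.node (TN.node (TN.node t1x (TN.leaf (nat_lit 0))) (TN.node t5x (TN.leaf (nat_lit 0)))) (TN.node (TN.node t3x (TN.leaf (nat_lit 0))) (TN.node t7x (TN.leaf (nat_lit 0))))))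
noncomputable def T (j c : ℕ) : ℕ := getL tt (nat_lit 19) (nat_lit 63) j c
noncomputable def E (j c : ℕ) : ℕ := getL tt (nat_lit 19) (nat_lit 524287) j c
theorem T_eq (j c : ℕ) : T j c = E j c % 64 :=
  getL_mod (a := 6) (b := 19) _ _ (by norm_num) (by norm_num) (by norm_num) (by norm_num) j c
def rels : List (List ℕ) := [[nat_lit 2, nat_lit 2, nat_lit 2], [nat_lit 0, nat_lit 1, nat_lit 0, nat_lit 1], [nat_lit 0, nat_lit 2, nat_lit 0, nat_lit 2, nat_lit 0, nat_lit 2], [nat_lit 2, nat_lit 0, nat_lit 3, nat_lit 1, nat_lit 0], [nat_lit 0, nat_lit 4, nat_lit 0, nat_lit 4, nat_lit 0, nat_lit 4], [nat_lit 2, nat_lit 4, nat_lit 2, nat_lit 4], [nat_lit 0, nat_lit 5, nat_lit 0, nat_lit 5], [nat_lit 2, nat_lit 5, nat_lit 2, nat_lit 5, nat_lit 2, nat_lit 5], [nat_lit 4, nat_lit 5, nat_lit 4, nat_lit 5], [nat_lit 0, nat_lit 6, nat_lit 0, nat_lit 6], [nat_lit 2, nat_lit 6, nat_lit 2, nat_lit 6, nat_lit 2,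 nat_lit 6], [nat_lit 4, nat_lit 6, nat_lit 4, nat_lit 6, nat_lit 4, nat_lit 6], [nat_lit 6, nat_lit 1, nat_lit 4, nat_lit 1, nat_lit 6, nat_lit 0, nat_lit 1, nat_lit 4, nat_lit 0, nat_lit 1], [nat_lit 6, nat_lit 2, nat_lit 5, nat_lit 2, nat_lit 6, nat_lit 2, nat_lit 5, nat_lit 2], [nat_lit 0, nat_lit 7, nat_lit 0, nat_lit 7, nat_lit 0, nat_lit 7], [nat_lit 2, nat_lit 7, nat_lit 2, nat_lit 7, nat_lit 2, nat_lit 7], [nat_lit 4, nat_lit 7, nat_lit 4, nat_lit 7], [nat_lit 5, nat_lit 7, nat_lit 5, nat_lit 7, nat_lit 5, nat_lit 7], [nat_lit 6, nat_lit 7, nat_lit 6, nat_lit 7, nat_lit 6, nat_lit 7], [nat_lit 1, nat_lit 2, nat_lit 7, nat_lit 1, nat_lit 2, nat_lit 7], [nat_lit 5, nat_lit 6, nat_lit 7, nat_lit 5, nat_lit 6, nat_lit 7, nat_lit 5, nat_lit 6, nat_lit 7, nat_lit 5, nat_lit 6, nat_lit 7], [nat_lit 7, nat_lit 1, nat_lit 6, nat_lit 3, nat_lit 7, nat_lit 1, nat_lit 3, nat_lit 6, nat_lit 1], [nat_lit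 7, nat_lit 6, nat_lit 1, nat_lit 5, nat_lit 6, nat_lit 1, nat_lit 5, nat_lit 7, nat_lit 1, nat_lit 6, nat_lit 5, nat_lit 1]]
def inv (i : ℕ) : ℕ := Nat.land (Nat.shiftRight (nat_lit 0x876542310) (Nat.mul (nat_lit 4) i)) (nat_lit 15)
def X_t : TN := (TN.leaf (nat_lit 0))
noncomputable def X (i : ℕ) : ℕ := get9 X_t (nat_lit 1) (nat_lit 1) i
def Jp_t : TN := (TN.leaf (nat_lit 0))
noncomputable def Jp (i : ℕ) : ℕ := get9 Jp_t (nat_lit 1) (nat_lit 1) i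
def J_t : TN := (TN.leaf (nat_lit 0))
noncomputable def J (k : ℕ) : ℕ := getV J_t Jp k
def Pa_t : TN := (TN.leaf (nat_lit 0xad1eb419c467069c1228089da2707959e557919e4578c1e267895e0777dd9d0669d991661d97165c1946651594354dd53254c552053d94e6535d4d6534d4d142990a4425d091421d08141d4c643184c513098c25309081620548132044810101c000))
noncomputable def Pa (i : ℕ) : ℕ := get9 Pa_t (nat_lit 14) (nat_lit 16383) i
def W_t1 : TL := (TL.node (TL.node (TL.node (TL.node (TL.node (TL.node (TL.leaf [nat_lit 32769, nat_lit 4, nat_lit 7, nat_lit 4, nat_lit 7]) (TL.leaf [nat_lit 26628, nat_lit 5, nat_lit 3, nat_lit 6, nat_lit 3, nat_lit 5, nat_lit 3, nat_lit 6, nat_lit 3])) (TL.leaf [nat_lit 43021, nat_lit 2, nat_lit 6, nat_lit 1, nat_lit 7, nat_lit 1, nat_lit 6, nat_lit 3, nat_lit 7, nat_lit 1])) (TL.node (TL.leaf [nat_lit 28673, nat_lit 0, nat_lit 7, nat_lit 0, nat_lit 7, nat_lit 0, nat_lit 7]) (TL.leaf [nat_lit 14339,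 nat_lit 5, nat_lit 2, nat_lit 5, nat_lit 2, nat_lit 5, nat_lit 2]))) (TL.node (TL.node (TL.leaf [nat_lit 1, nat_lit 3, nat_lit 2, nat_lit 2]) (TL.leaf [nat_lit 4098, nat_lit 2, nat_lit 0, nat_lit 3, nat_lit 0, nat_lit 3, nat_lit 0])) (TL.node (TL.leaf [nat_lit 6148, nat_lit 1, nat_lit 2, nat_lit 0, nat_lit 3, nat_lit 0]) (TL.leaf [nat_lit 43019, nat_lit 1, nat_lit 3, nat_lit 6, nat_lit 1, nat_lit 7, nat_lit 1, nat_lit 6, nat_lit 3, nat_lit 7])))) (TL.node (TL.node (TL.node (TL.leaf [nat_lit 28675, nat_lit 7, nat_lit 0, nat_lit 7, nat_lit 0, nat_lit 7, nat_lit 0]) (TL.leaf [nat_lit 20482, nat_lit 6, nat_lit 3, nat_lit 6, nat_lit 3, nat_lit 6, nat_lit 3])) (TL.node (TL.leaf [nat_lit 4097, nat_lit 0, nat_lit 2, nat_lit 0, nat_lit 2, nat_lit 0, nat_lit 2]) (TL.leaf [nat_lit 38918, nat_lit 1, nat_lit 7, nat_lit 3, nat_lit 1, nat_lit 7, nat_lit 3]))) (TL.node (TL.node (TL.leaf [nat_lit 6145, nat_lit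 3, nat_lit 0, nat_lit 3, nat_lit 1, nat_lit 0]) (TL.leaf [nat_lit 20484, nat_lit 2, nat_lit 6, nat_lit 3, nat_lit 6, nat_lit 3, nat_lit 6])) (TL.node (TL.leaf [nat_lit 6150, nat_lit 3, nat_lit 0, nat_lit 3, nat_lit 0, nat_lit 1]) (TL.leaf [nat_lit 43015, nat_lit 2, nat_lit 7, nat_lit 1, nat_lit 3, nat_lit 6, nat_lit 1, nat_lit 7, nat_lit 1, nat_lit 6]))))) (TL.node (TL.node (TL.node (TL.node (TL.node (TL.leaf [nat_lit 18433, nat_lit 0, nat_lit 6, nat_lit 0, nat_lit 6]) (TL.leaf [nat_lit 43020, nat_lit 3, nat_lit 6, nat_lit 1, nat_lit 7, nat_lit 1, nat_lit 6, nat_lit 2, nat_lit 1, nat_lit 7])) (TL.leaf [nat_lit 16387, nat_lit 5, nat_lit 4, nat_lit 5, nat_lit 4])) (TL.node (TL.leaf [nat_lit 36865, nat_lit 6, nat_lit 7, nat_lit 6, nat_lit 7, nat_lit 6, nat_lit 7]) (TL.leaf [nat_lit 43009, nat_lit 7, nat_lit 1, nat_lit 6, nat_lit 3, nat_lit 7, nat_lit 1, nat_lit 3, nat_lit 6, nat_lit 1]))) (TL.node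 (TL.node (TL.leaf [nat_lit 32771, nat_lit 7, nat_lit 4, nat_lit 7, nat_lit 4]) (TL.leaf [nat_lit 14338, nat_lit 5, nat_lit 3, nat_lit 5, nat_lit 3, nat_lit 5, nat_lit 3])) (TL.node (TL.leaf [nat_lit 20481, nat_lit 3, nat_lit 6, nat_lit 2, nat_lit 6, nat_lit 2, nat_lit 6]) (TL.leaf [nat_lit 4099, nat_lit 3, nat_lit 0, nat_lit 2, nat_lit 0, nat_lit 2, nat_lit 0])))) (TL.node (TL.node (TL.node (TL.leaf [nat_lit 34819, nat_lit 7, nat_lit 5, nat_lit 7, nat_lit 5, nat_lit 7, nat_lit 5]) (TL.leaf [nat_lit 18435, nat_lit 6, nat_lit 0, nat_lit 6, nat_lit 0])) (TL.node (TL.leaf [nat_lit 43023, nat_lit 6, nat_lit 1, nat_lit 7, nat_lit 1, nat_lit 6, nat_lit 3, nat_lit 7, nat_lit 1, nat_lit 3]) (TL.leaf [nat_lit 45071, nat_lit 7, nat_lit 1, nat_lit 6, nat_lit 5, nat_lit 1, nat_lit 7, nat_lit 6, nat_lit 1, nat_lit 5, nat_lit 6, nat_lit 1, nat_lit 5]))) (TL.node (TL.node (TL.leaf [nat_lit 8193, nat_lit 0,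 nat_lit 4, nat_lit 0, nat_lit 4, nat_lit 0, nat_lit 4]) (TL.leaf [nat_lit 6146, nat_lit 0, nat_lit 1, nat_lit 2, nat_lit 0, nat_lit 3])) (TL.node (TL.leaf [nat_lit 14337, nat_lit 3, nat_lit 5, nat_lit 2, nat_lit 5, nat_lit 2, nat_lit 5]) (TL.leaf [nat_lit 14340, nat_lit 2, nat_lit 5, nat_lit 3, nat_lit 5, nat_lit 3, nat_lit 5]))))))
def W_t2 : TL := (TL.node (TL.node (TL.node (TL.node (TL.node (TL.node (TL.leaf [nat_lit 12289, nat_lit 0, nat_lit 5, nat_lit 0, nat_lit 5]) (TL.leaf [nat_lit 45073, nat_lit 1, nat_lit 6, nat_lit 5, nat_lit 1, nat_lit 7, nat_lit 6, nat_lit 1, nat_lit 5, nat_lit 6, nat_lit 1, nat_lit 5, nat_lit 7])) (TL.leaf [nat_lit 24577, nat_lit 6, nat_lit 1, nat_lit 4, nat_lit 1, nat_lit 6, nat_lit 0, nat_lit 1, nat_lit 4, nat_lit 0, nat_lit 1])) (TL.node (TL.leaf [nat_lit 34817, nat_lit 5, nat_lit 7, nat_lit 5, nat_lit 7, nat_lit 5, nat_lit 7]) (TL.leaf [nat_lit 40961, nat_lit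 5, nat_lit 6, nat_lit 7, nat_lit 5, nat_lit 6, nat_lit 7, nat_lit 5, nat_lit 6, nat_lit 7, nat_lit 5, nat_lit 6, nat_lit 7]))) (TL.node (TL.node (TL.leaf [nat_lit 10243, nat_lit 4, nat_lit 2, nat_lit 4, nat_lit 2]) (TL.leaf [nat_lit 38914, nat_lit 7, nat_lit 3, nat_lit 1, nat_lit 7, nat_lit 3, nat_lit 1])) (TL.node (TL.leaf [nat_lit 6151, nat_lit 1, nat_lit 0, nat_lit 2, nat_lit 0, nat_lit 3]) (TL.leaf [nat_lit 6149, nat_lit 2, nat_lit 1, nat_lit 0, nat_lit 2, nat_lit 0])))) (TL.node (TL.node (TL.node (TL.leaf [nat_lit 38915, nat_lit 3, nat_lit 7, nat_lit 1, nat_lit 2, nat_lit 7, nat_lit 1]) (TL.leaf [nat_lit 26625, nat_lit 6, nat_lit 2, nat_lit 5, nat_lit 2, nat_lit 6, nat_lit 2, nat_lit 5, nat_lit 2])) (TL.node (TL.leaf [nat_lit 8195, nat_lit 4, nat_lit 0, nat_lit 4, nat_lit 0, nat_lit 4, nat_lit 0]) (TL.leaf [nat_lit 24581, nat_lit 4, nat_lit 1, nat_lit 6, nat_lit 0, nat_lit 1, nat_lit 4,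 nat_lit 0, nat_lit 1, nat_lit 6, nat_lit 1]))) (TL.node (TL.node (TL.leaf [nat_lit 30723, nat_lit 7, nat_lit 2, nat_lit 7, nat_lit 2, nat_lit 7, nat_lit 2]) (TL.leaf [nat_lit 2, nat_lit 2, nat_lit 3, nat_lit 3])) (TL.node (TL.leaf [nat_lit 6147, nat_lit 0, nat_lit 3, nat_lit 1, nat_lit 0, nat_lit 2]) (TL.leaf [nat_lit 24591, nat_lit 4, nat_lit 0, nat_lit 1, nat_lit 6, nat_lit 1, nat_lit 4, nat_lit 1, nat_lit 6, nat_lit 0, nat_lit 1]))))) (TL.node (TL.node (TL.node (TL.node (TL.leaf [nat_lit 16385, nat_lit 4, nat_lit 5, nat_lit 4, nat_lit 5]) (TL.leaf [nat_lit 22529, nat_lit 4, nat_lit 6, nat_lit 4, nat_lit 6, nat_lit 4, nat_lit 6])) (TL.node (TL.leaf [nat_lit 10241, nat_lit 3, nat_lit 4, nat_lit 2, nat_lit 4]) (TL.leaf [nat_lit 30724, nat_lit 2, nat_lit 7, nat_lit 3, nat_lit 7, nat_lit 3, nat_lit 7]))) (TL.node (TL.node (TL.leaf [nat_lit 2049, nat_lit 0, nat_lit 1, nat_lit 0, nat_lit 1]) (TL.leaf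 [nat_lit 30721, nat_lit 3, nat_lit 7, nat_lit 2, nat_lit 7, nat_lit 2, nat_lit 7])) (TL.node (TL.leaf [nat_lit 45077, nat_lit 5, nat_lit 1, nat_lit 7, nat_lit 6, nat_lit 1, nat_lit 5, nat_lit 6, nat_lit 1, nat_lit 5, nat_lit 7, nat_lit 1, nat_lit 6]) (TL.leaf [nat_lit 6154, nat_lit 2, nat_lit 0, nat_lit 1, nat_lit 2, nat_lit 0])))) (TL.node (TL.node (TL.node (TL.leaf [nat_lit 36867, nat_lit 7, nat_lit 6, nat_lit 7, nat_lit 6, nat_lit 7, nat_lit 6]) (TL.leaf [nat_lit 10242, nat_lit 4, nat_lit 3, nat_lit 4, nat_lit 3])) (TL.node (TL.leaf [nat_lit 12291, nat_lit 5, nat_lit 0, nat_lit 5, nat_lit 0]) (TL.leaf [nat_lit 2051, nat_lit 1, nat_lit 0, nat_lit 1, nat_lit 0]))) (TL.node (TL.node (TL.leaf [nat_lit 22531, nat_lit 6, nat_lit 4, nat_lit 6, nat_lit 4, nat_lit 6, nat_lit 4]) (TL.leaf [nat_lit 38913, nat_lit 1, nat_lit 2, nat_lit 7, nat_lit 1, nat_lit 2, nat_lit 7])) (TL.node (TL.leaf [nat_lit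 26629, nat_lit 5, nat_lit 2, nat_lit 6, nat_lit 2, nat_lit 5, nat_lit 2, nat_lit 6, nat_lit 2]) (TL.leaf [nat_lit 26632, nat_lit 6, nat_lit 3, nat_lit 5, nat_lit 3, nat_lit 6, nat_lit 3, nat_lit 5, nat_lit 3]))))))
def W_t : TL := (TL.node W_t1 W_t2)
noncomputable def W (i : ℕ) : List ℕ := TL.get W_t i
def WA_t : TL := (TL.leaf [nat_lit 0])
noncomputable def WA (i : ℕ) : List ℕ := TL.get WA_t i
noncomputable def row : ℕ → ℕ := hRow (nat_lit 55) (nat_lit 8) (nat_lit 7) (nat_lit 64) (nat_lit 128) (nat_lit 8192) (nat_lit 1024) (nat_lit 1024) (nat_lit 0) E X Pa inv (wfun (nat_lit 67) W_t)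
noncomputable def aux : ℕ → ℕ := hAux (nat_lit 56) (nat_lit 8) (nat_lit 64) (nat_lit 8192) (nat_lit 1024) (nat_lit 2) (nat_lit 2) (nat_lit 1024) (nat_lit 0) E X J Pa inv WA_t.get
theorem r0 : Nat.beq (rng row (nat_lit 0) (nat_lit 56)) (nat_lit 0) = true := by decide +kernel
theorem rows : ∀ i < 56, row i = 0 := by
  have h := zero_lt_zero row
  have h := zero_lt_add (a := (nat_lit 0)) (n := (nat_lit 56)) (b := (nat_lit 56)) h r0 rfl
  exact h
theorem auxs : ∀ i < 0, aux i = 0 := by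
  have h := zero_lt_zero aux
  exact h
theorem closes.{u} : ClosesT.{u} inv rels 8 7 56 T :=
  hc_closes (N1 := (nat_lit 55)) rfl T_eq (by decide +kernel) rows auxs
theorem T_inv : ∀ c < 56, ∀ j < 8, T j c < 56 ∧ T (inv j) (T j c) = c := 
  hc_inv (inv := inv) (N1 := (nat_lit 55)) rfl T_eq rows
end L6

namespace L7
def t0x : TN := (TN.leaf (nat_lit 0x4067740376ac073040e2a827560061778de9c065248ef9006a7c059780644c66b8c66e84e696004f680513c266988f07426c040c7080745c3726404e88050780716065d5c0412095b1403d7836d040b98004c60054725d55c35670040040b564367848df5c268615e04834d7c6576c031640435c0303864808063589463c0443a4c56024a5403b5895c6f1d3040a25c33e1025a325bc508c210021080585c037589385802d080521c6341c333449326864b5b1c9448af04099565b6425ac28029365aa2462b308a8340255031b325a718624183230803f0c33a3c01f3a4a00408b1831d50018540261821a0802e4f11c240162159724014215952400e1400814007146101430f209131c0091420c0801e1460a18e0d10612103111000310905108840c206040810800204080))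
def t1x : TN := (TN.leaf (nat_lit 0x58df75cdf6040e54c062a407084dde90061a0df388def9406a89b6d040d16805d90dee8c055040c96cde4040c808075700674db634a6f48fc716405c8c04b880726776b60de07175b040ba86459780548404c70db98976975b5869753640380806c040b1040b05804158dcd80dd789b5f4c03608068080664a44765746426ab040a95c02d5803b557ce75b404db3f60dbe040a14002f54dc20805a7405661b52440354b04a4173738db43cdb341732080500804f3ec3c3802558dc34242c440453642a0804438da8300195a6a635b2e34da448da34a4220803d4269e0408b4402028d9d4c01858d9b0408a2e4274979c240120408824011040872400e20d9720d9538d904cd8f2171329b0d040850801f0801a257890801608014040820800c1cd8404081080060800304080))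
def t2x : TN := (TN.leaf (nat_lit 0x5407758076b40754c0669c0658c05e740715a1f38406f7405d8006a7ebe4812ed7b9eb6c0536404978eec440639a1f0361e752bf4440486d2f2040c17c04b84061580594c1606c05b5403a5cd6e7ebd8500555c039700406d2d66404c60037400517e1df700685404e5404d080696f8504804a6754f3404734d62600463c04434029340362002f453dc6cd574e1c25803e6005a100223cd3c572bd5735466bd2493b83402d3c03534034380333c032380314c03042bbf3ebae24d434002c3002b3402a0804534028240192401824d27300244402334d3b500213c01f3400b2a39e2401d0408a0c11c2e1a618d252c01a0408838016040872ce942400c2411724115340104800f040850c10e18009080200801b1d3931d3121d291140020800d180041c00614e831000104080))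
def t3x : TN := (TN.leaf (nat_lit 0x51df755876b0775540635c07070061701f19c065805ef600598406b7c0677c06a7d86d040cc6edcf380644b0f4985f38006c42de63804783b5e5005c8005089872701ee480416a85b5edbd562dd8005870040700544c1d758039691e9680383c1d17004b680495284e5184d62853785df445ca60768401e2322c85e846040a9391c52802d5003f080606c1d54402f541be5803a4003b380225075a598564c0375edd2301c33a83531db4358333a83235db1498301c5c24002e301b63c1ac2ddab301aa30744305a8280253001a1c0192dda4418230c1bc4d8210408b391a02c01e2181d1001b0408a28598201a7205a62801234996280113001420009200082000731d904580f1000d04085211933071f0801c1498c0801708015191830800e1458418002107060c18108000))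
def t4x : TN := (TN.leaf (nat_lit 0x90071443f6c02f588063040dd5c0618e077040d9040d8980656406a806e254aeb603ed706e97004f040c842066942ee040c7850f48406c583f25d260040c0602de08073580411c2db6003d080700806f7c050280547804b243d66004c450d2643d1792576d26810032100305c2d3742d5040ac3c2c90806708064442c648044446c5606c3040a5542dc0805f480275c3be5d25a4843c4c6a2183ba202b924037202b85c02d4002430ab44002b0c2ce10ab10c3cd0409942f2e584360804a3c3b33aaaa40aa904094446bf04092080423c2b52c3a35003b1400f1400e3800d1509e1c39d2001b1d21c260170802f040882801a10b162d215080282400908026240073cb10103a1106a03521f2920c1000518a8a202930801820391186830c28b040811c0060c4020800404080))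
def t5x : TN := (TN.leaf (nat_lit 0x5a377040e6b0bf55406364cf3040dc787f17805f50cef74057040d384ce476ceb040cc7a3697004f4c04a08076736d08806c50bf450047040c168be074cf05d45e607dd080721945b6003d740404cbd8707ee040b8747d5040b70806d60bd240043740656dce86144e040af0806a6144b48ce76002e4802c4c7e2494464c0444ae453c7d15003f08061707d94ccc25803c5dcda547be4c0220409e4943908056080543802d5d4353a3340409a5d4324a331040990804d5cbc9368b6447c838017387aa4401634ca84802530018447a7423240408c487bb0408b4801f44ca00803a0408a2001b1d49c08033080302cca63632b42ca92dc9530b9440009254880408646310040854400d40b8e08023080210801d3d4132801204083080110800f18c840800718b821478104080))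
def t6x : TN := (TN.leaf (nat_lit 0x40e65de76b0c7548063618f388064788719c068598ef7c05985e6a80061040cd8806d7a569998f03d8e7080776c04f8487244c74440477faec6c04a80050769de040be880415a9db8803d7886e5403a5003b7595474855780567403f64c52448517d8df6b5e5680430806b780426802e68c60629c9040aa408623a9c63c0443a5456454e7654c869dc040a2735d30805d8505a4483c4c85750c58500214c01f480203802d629b50409a3de33469b20409951e300c52f6724b369364482c0409508048040943eb283402524018308270408c49e23080404f23946fb74a9b844c1e29e1d1c01b1901c0803408031218a62d0172e0960802b080292c0090408625907040854990f3000d2cc0e080244188b0408429f13040832801108012080100800a0800818c021480104080))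
def t7x : TN := (TN.leaf (nat_lit 0xc0ff7c0f76bc066a006375c73500617d1718c06221c6f940643c06a800597ba5138f6d727e97004f61c67ba775040c79116e9d17489c704cf7254a608c050040be704dd040bb040ba6343d7f46c1d15884040240547404a20f56040b61d1527c06b89c5f6ca68040af5dc4d040ad040ac73955040aa5c4c808065040a95a7445c0455f7c35003f040a2811574dc420805e6405a404bc0805c0805b0409d0409c0409b080530409a5dab459c330409942d315b3b00804e4272e0804c0804b54fab080490804639c283802534018344a739a974e615080411cf213c01f3a7a01511e080390803808037080350803231c263c0241da96500233661404086300083c00718f9018f0f1400d10a0e24a0c0408444f8a040832cf923a71108013040810800b080090c4820800504080))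
def t8x : TN := (TN.leaf (nat_lit 0x89d778a276b006f8a174a806579672040dba16f0ad9f5040d68406b800678166d8a26a84053721687e26c819e3a5bf381be484066040c487bde71d4181bdf880616005461fdc080716215a040b981d58040b80806e040b75d6dd81be96c040040b376ecb640496c0345a24d7dd4c780505f4ca61a4f38045040a95dfc6356c808062040a655bc27406069d525402f040a15403a040a00409f51a3d0805908057080550409a5f63569d4e0805149fb2400245402351a3f46eae040980409635d2b04094080473ea2804093080430408c3dd31522300408b0803e0803c0803b25f9e2e21d2e11c2800a08036040890802d2c0080802c2c0070802a080272569225611356904960f2e10e28005080250802225d1b0801929b9729b952198625e8d21a041c002195030408008001))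
def tt : TN := (TN.node (TN.node (TN.node (TN.node t0x t8x) (TN.node t4x (TN.leaf (nat_lit 0)))) (TN.node (TN.node t2x (TN.leaf (nat_lit 0))) (TN.node t6x (TN.leaf (nat_lit 0))))) (TN.node (TN.node (TN.node t1x (TN.leaf (nat_lit 0))) (TN.node t5x (TN.leaf (nat_lit 0)))) (TN.node (TN.node t3x (TN.leaf (nat_lit 0))) (TN.node t7x (TN.leaf (nat_lit 0))))))
noncomputable def T (j c : ℕ) : ℕ := getL tt (nat_lit 20) (nat_lit 127) j c
noncomputable def E (j c : ℕ) : ℕ := getL tt (nat_lit 20) (nat_lit 0xfffff) j c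
theorem T_eq (j c : ℕ) : T j c = E j c % 128 :=
  getL_mod (a := 7) (b := 20) _ _ (by norm_num) (by norm_num) (by norm_num) (by norm_num) j c
def rels : List (List ℕ) := [[nat_lit 2, nat_lit 2, nat_lit 2], [nat_lit 0, nat_lit 1, nat_lit 0, nat_lit 1], [nat_lit 0, nat_lit 2, nat_lit 0, nat_lit 2, nat_lit 0, nat_lit 2], [nat_lit 2, nat_lit 0, nat_lit 3, nat_lit 1, nat_lit 0], [nat_lit 0, nat_lit 4, nat_lit 0, nat_lit 4, nat_lit 0, nat_lit 4], [nat_lit 2, nat_lit 4, nat_lit 2, nat_lit 4], [nat_lit 0, nat_lit 5, nat_lit 0, nat_lit 5], [nat_lit 2, nat_lit 5, nat_lit 2, nat_lit 5, nat_lit 2, nat_lit 5], [nat_lit 4, nat_lit 5, nat_lit 4, nat_lit 5], [nat_lit 0, nat_lit 6, nat_lit 0, nat_lit 6], [nat_lit 2, nat_lit 6, nat_lit 2, nat_lit 6, nat_lit 2, nat_lit 6], [nat_lit 4, nat_lit 6, nat_lit 4, nat_lit 6, nat_lit 4, nat_lit 6], [nat_lit 6, nat_lit 1, nat_lit 4, nat_lit 1, nat_lit 6, nat_lit 0, nat_lit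 1, nat_lit 4, nat_lit 0, nat_lit 1], [nat_lit 6, nat_lit 2, nat_lit 5, nat_lit 2, nat_lit 6, nat_lit 2, nat_lit 5, nat_lit 2], [nat_lit 0, nat_lit 7, nat_lit 0, nat_lit 7, nat_lit 0, nat_lit 7], [nat_lit 2, nat_lit 7, nat_lit 2, nat_lit 7, nat_lit 2, nat_lit 7], [nat_lit 4, nat_lit 7, nat_lit 4, nat_lit 7], [nat_lit 5, nat_lit 7, nat_lit 5, nat_lit 7, nat_lit 5, nat_lit 7], [nat_lit 6, nat_lit 7, nat_lit 6, nat_lit 7, nat_lit 6, nat_lit 7], [nat_lit 1, nat_lit 2, nat_lit 7, nat_lit 1, nat_lit 2, nat_lit 7], [nat_lit 5, nat_lit 6, nat_lit 7, nat_lit 5, nat_lit 6, nat_lit 7, nat_lit 5, nat_lit 6, nat_lit 7, nat_lit 5, nat_lit 6, nat_lit 7], [nat_lit 7, nat_lit 1, nat_lit 6, nat_lit 3, nat_lit 7, nat_lit 1, nat_lit 3, nat_lit 6, nat_lit 1], [nat_lit 7, nat_lit 6, nat_lit 1, nat_lit 5, nat_lit 6, nat_lit 1, nat_lit 5, nat_lit 7, nat_lit 1, nat_lit 6, nat_lit 5, nat_lit 1], [nat_lit 2, nat_lit 8,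 nat_lit 2, nat_lit 8], [nat_lit 0, nat_lit 2, nat_lit 8, nat_lit 0, nat_lit 2, nat_lit 8, nat_lit 0, nat_lit 2, nat_lit 8], [nat_lit 1, nat_lit 3, nat_lit 8, nat_lit 1, nat_lit 3, nat_lit 8, nat_lit 1, nat_lit 3, nat_lit 8], [nat_lit 2, nat_lit 8, nat_lit 5, nat_lit 2, nat_lit 8, nat_lit 5], [nat_lit 2, nat_lit 8, nat_lit 6, nat_lit 2, nat_lit 8, nat_lit 6], [nat_lit 6, nat_lit 7, nat_lit 8, nat_lit 6, nat_lit 7, nat_lit 8, nat_lit 6, nat_lit 7, nat_lit 8, nat_lit 6, nat_lit 7, nat_lit 8, nat_lit 6, nat_lit 7, nat_lit 8], [nat_lit 8, nat_lit 0, nat_lit 4, nat_lit 0, nat_lit 8, nat_lit 1, nat_lit 2, nat_lit 4, nat_lit 1], [nat_lit 8, nat_lit 0, nat_lit 7, nat_lit 0, nat_lit 8, nat_lit 2, nat_lit 0, nat_lit 7, nat_lit 0], [nat_lit 8, nat_lit 1, nat_lit 7, nat_lit 8, nat_lit 4, nat_lit 6, nat_lit 4, nat_lit 8, nat_lit 7, nat_lit 1, nat_lit 8, nat_lit 4, nat_lit 5, nat_lit 1, nat_lit 5, nat_lit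 4, nat_lit 1, nat_lit 6, nat_lit 1, nat_lit 6, nat_lit 4, nat_lit 7, nat_lit 0, nat_lit 6, nat_lit 7, nat_lit 5, nat_lit 1, nat_lit 5, nat_lit 4]]
def inv (i : ℕ) : ℕ := Nat.land (Nat.shiftRight (nat_lit 0x9876542310) (Nat.mul (nat_lit 4) i)) (nat_lit 15)
def X_t : TN := (TN.leaf (nat_lit 0))
noncomputable def X (i : ℕ) : ℕ := get9 X_t (nat_lit 1) (nat_lit 1) i
def Jp_t : TN := (TN.leaf (nat_lit 0))
noncomputable def Jp (i : ℕ) : ℕ := get9 Jp_t (nat_lit 1) (nat_lit 1) i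
def J_t : TN := (TN.leaf (nat_lit 0))
noncomputable def J (k : ℕ) : ℕ := getV J_t Jp k
def Pa_t : TN := (TN.leaf (nat_lit 0x8ccd1996328c6207ba8f715edc3d947b08f5a1e9abd1179acf315e61bc917908f205e3bbc7478e0f121a0ab4126808cf9d9f333b7674ece859cc33906710ce159bc337566cecd4199c33116602cbdd97ab2d7658ecb11953b2a66530ca5d949b29164d0a951513aa265440a861508aa0853f0a7954eba9c7536ea6a14d3a9a6534aa65d4cb29955328a6414c4296852aca5214a329445270a49106420c6418a82e105aa0b3416282c1052a0a24146828504c208441048205039207140ce8199032985630aa6148c299851308e6118c1b9836306a608480b9014202240404040000))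
noncomputable def Pa (i : ℕ) : ℕ := get9 Pa_t (nat_lit 15) (nat_lit 32767) i
def W_t1 : TL := (TL.node (TL.node (TL.node (TL.node (TL.node (TL.node (TL.leaf [nat_lit 2, nat_lit 2, nat_lit 3, nat_lit 3]) (TL.leaf [nat_lit 47106, nat_lit 8, nat_lit 3, nat_lit 8, nat_lit 3])) (TL.node (TL.leaf [nat_lit 28675, nat_lit 7, nat_lit 0, nat_lit 7, nat_lit 0, nat_lit 7, nat_lit 0]) (TL.leaf [nat_lit 6153, nat_lit 0, nat_lit 2, nat_lit 0, nat_lit 3, nat_lit 1]))) (TL.node (TL.node (TL.leaf [nat_lit 28673, nat_lit 0, nat_lit 7, nat_lit 0, nat_lit 7, nat_lit 0, nat_lit 7]) (TL.leaf [nat_lit 55298, nat_lit 6, nat_lit 8, nat_lit 3, nat_lit 6, nat_lit 8, nat_lit 3])) (TL.node (TL.leaf [nat_lit 26632, nat_lit 6, nat_lit 3, nat_lit 5, nat_lit 3, nat_lit 6, nat_lit 3, nat_lit 5, nat_lit 3]) (TL.leaf [nat_lit 43017, nat_lit 7, nat_lit 1, nat_lit 3, nat_lit 6, nat_lit 1, nat_lit 7, nat_lit 1, nat_lit 6, nat_lit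 3])))) (TL.node (TL.node (TL.node (TL.leaf [nat_lit 63499, nat_lit 6, nat_lit 4, nat_lit 8, nat_lit 7, nat_lit 1, nat_lit 8, nat_lit 4, nat_lit 5, nat_lit 1, nat_lit 5, nat_lit 4, nat_lit 1, nat_lit 6, nat_lit 1, nat_lit 6, nat_lit 4, nat_lit 7, nat_lit 0, nat_lit 6, nat_lit 7, nat_lit 5, nat_lit 1, nat_lit 5, nat_lit 4, nat_lit 8, nat_lit 1, nat_lit 7, nat_lit 8, nat_lit 4]) (TL.leaf [nat_lit 20483, nat_lit 6, nat_lit 2, nat_lit 6, nat_lit 2, nat_lit 6, nat_lit 2])) (TL.node (TL.leaf [nat_lit 49157, nat_lit 8, nat_lit 0, nat_lit 2, nat_lit 8, nat_lit 0, nat_lit 2, nat_lit 8, nat_lit 0, nat_lit 2]) (TL.leaf [nat_lit 51203, nat_lit 2, nat_lit 8, nat_lit 1, nat_lit 3, nat_lit 8, nat_lit 1, nat_lit 3, nat_lit 8, nat_lit 1]))) (TL.node (TL.node (TL.leaf [nat_lit 47108, nat_lit 2, nat_lit 8, nat_lit 3, nat_lit 8]) (TL.leaf [nat_lit 57348, nat_lit 7, nat_lit 6, nat_lit 8, nat_lit 7, nat_lit 6, nat_lit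 8, nat_lit 7, nat_lit 6, nat_lit 8, nat_lit 7, nat_lit 6, nat_lit 8, nat_lit 7, nat_lit 6, nat_lit 8])) (TL.leaf [nat_lit 55299, nat_lit 8, nat_lit 6, nat_lit 2, nat_lit 8, nat_lit 6, nat_lit 2])))) (TL.node (TL.node (TL.node (TL.node (TL.leaf [nat_lit 12289, nat_lit 0, nat_lit 5, nat_lit 0, nat_lit 5]) (TL.leaf [nat_lit 26629, nat_lit 5, nat_lit 2, nat_lit 6, nat_lit 2, nat_lit 5, nat_lit 2, nat_lit 6, nat_lit 2])) (TL.node (TL.leaf [nat_lit 20484, nat_lit 2, nat_lit 6, nat_lit 3, nat_lit 6, nat_lit 3, nat_lit 6]) (TL.leaf [nat_lit 26630, nat_lit 2, nat_lit 6, nat_lit 3, nat_lit 5, nat_lit 3, nat_lit 6, nat_lit 3, nat_lit 5]))) (TL.node (TL.node (TL.leaf [nat_lit 24581, nat_lit 4, nat_lit 1, nat_lit 6, nat_lit 0, nat_lit 1, nat_lit 4, nat_lit 0, nat_lit 1, nat_lit 6, nat_lit 1]) (TL.leaf [nat_lit 24577, nat_lit 6, nat_lit 1, nat_lit 4, nat_lit 1, nat_lit 6, nat_lit 0, nat_lit 1, nat_lit 4,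 nat_lit 0, nat_lit 1])) (TL.node (TL.leaf [nat_lit 2051, nat_lit 1, nat_lit 0, nat_lit 1, nat_lit 0]) (TL.leaf [nat_lit 43020, nat_lit 3, nat_lit 6, nat_lit 1, nat_lit 7, nat_lit 1, nat_lit 6, nat_lit 2, nat_lit 1, nat_lit 7])))) (TL.node (TL.node (TL.node (TL.leaf [nat_lit 6150, nat_lit 3, nat_lit 0, nat_lit 3, nat_lit 0, nat_lit 1]) (TL.leaf [nat_lit 38917, nat_lit 7, nat_lit 1, nat_lit 2, nat_lit 7, nat_lit 1, nat_lit 2])) (TL.node (TL.leaf [nat_lit 38913, nat_lit 1, nat_lit 2, nat_lit 7, nat_lit 1, nat_lit 2, nat_lit 7]) (TL.leaf [nat_lit 45061, nat_lit 1, nat_lit 5, nat_lit 6, nat_lit 1, nat_lit 5, nat_lit 7, nat_lit 1, nat_lit 6, nat_lit 5, nat_lit 1, nat_lit 7, nat_lit 6]))) (TL.node (TL.node (TL.leaf [nat_lit 34819, nat_lit 7, nat_lit 5, nat_lit 7, nat_lit 5, nat_lit 7, nat_lit 5]) (TL.leaf [nat_lit 59407, nat_lit 4, nat_lit 1, nat_lit 8, nat_lit 0, nat_lit 4, nat_lit 0, nat_lit 8, nat_lit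 1, nat_lit 2])) (TL.leaf [nat_lit 43023, nat_lit 6, nat_lit 1, nat_lit 7, nat_lit 1, nat_lit 6, nat_lit 3, nat_lit 7, nat_lit 1, nat_lit 3]))))) (TL.node (TL.node (TL.node (TL.node (TL.node (TL.leaf [nat_lit 2049, nat_lit 0, nat_lit 1, nat_lit 0, nat_lit 1]) (TL.leaf [nat_lit 53251, nat_lit 8, nat_lit 5, nat_lit 2, nat_lit 8, nat_lit 5, nat_lit 2])) (TL.node (TL.leaf [nat_lit 10242, nat_lit 4, nat_lit 3, nat_lit 4, nat_lit 3]) (TL.leaf [nat_lit 40963, nat_lit 6, nat_lit 7, nat_lit 5, nat_lit 6, nat_lit 7, nat_lit 5, nat_lit 6, nat_lit 7, nat_lit 5, nat_lit 6, nat_lit 7, nat_lit 5]))) (TL.node (TL.node (TL.leaf [nat_lit 30722, nat_lit 7, nat_lit 3, nat_lit 7, nat_lit 3, nat_lit 7, nat_lit 3]) (TL.leaf [nat_lit 59402, nat_lit 8, nat_lit 0, nat_lit 4, nat_lit 0, nat_lit 8, nat_lit 1, nat_lit 4, nat_lit 3, nat_lit 1])) (TL.node (TL.leaf [nat_lit 59393, nat_lit 8, nat_lit 0, nat_lit 4, nat_lit 0,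 nat_lit 8, nat_lit 1, nat_lit 2, nat_lit 4, nat_lit 1]) (TL.leaf [nat_lit 40965, nat_lit 7, nat_lit 5, nat_lit 6, nat_lit 7, nat_lit 5, nat_lit 6, nat_lit 7, nat_lit 5, nat_lit 6, nat_lit 7, nat_lit 5, nat_lit 6])))) (TL.node (TL.node (TL.node (TL.leaf [nat_lit 18433, nat_lit 0, nat_lit 6, nat_lit 0, nat_lit 6]) (TL.leaf [nat_lit 45071, nat_lit 7, nat_lit 1, nat_lit 6, nat_lit 5, nat_lit 1, nat_lit 7, nat_lit 6, nat_lit 1, nat_lit 5, nat_lit 6, nat_lit 1, nat_lit 5])) (TL.node (TL.leaf [nat_lit 53252, nat_lit 8, nat_lit 3, nat_lit 5, nat_lit 8, nat_lit 3, nat_lit 5]) (TL.leaf [nat_lit 63503, nat_lit 8, nat_lit 7, nat_lit 1, nat_lit 8, nat_lit 4, nat_lit 5, nat_lit 1, nat_lit 5, nat_lit 4, nat_lit 1, nat_lit 6, nat_lit 1, nat_lit 6, nat_lit 4, nat_lit 7, nat_lit 0, nat_lit 6, nat_lit 7, nat_lit 5, nat_lit 1, nat_lit 5, nat_lit 4, nat_lit 8, nat_lit 1, nat_lit 7, nat_lit 8, nat_lit 4, nat_lit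 6, nat_lit 4]))) (TL.node (TL.node (TL.leaf [nat_lit 6147, nat_lit 0, nat_lit 3, nat_lit 1, nat_lit 0, nat_lit 2]) (TL.leaf [nat_lit 14339, nat_lit 5, nat_lit 2, nat_lit 5, nat_lit 2, nat_lit 5, nat_lit 2])) (TL.leaf [nat_lit 26625, nat_lit 6, nat_lit 2, nat_lit 5, nat_lit 2, nat_lit 6, nat_lit 2, nat_lit 5, nat_lit 2])))) (TL.node (TL.node (TL.node (TL.node (TL.leaf [nat_lit 59397, nat_lit 4, nat_lit 0, nat_lit 8, nat_lit 1, nat_lit 2, nat_lit 4, nat_lit 1, nat_lit 8, nat_lit 0]) (TL.leaf [nat_lit 51201, nat_lit 1, nat_lit 3, nat_lit 8, nat_lit 1, nat_lit 3, nat_lit 8, nat_lit 1, nat_lit 3, nat_lit 8])) (TL.node (TL.leaf [nat_lit 34817, nat_lit 5, nat_lit 7, nat_lit 5, nat_lit 7, nat_lit 5, nat_lit 7]) (TL.leaf [nat_lit 38914, nat_lit 7, nat_lit 3, nat_lit 1, nat_lit 7, nat_lit 3, nat_lit 1]))) (TL.node (TL.node (TL.leaf [nat_lit 18435, nat_lit 6, nat_lit 0, nat_lit 6, nat_lit 0]) (TL.leaf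 [nat_lit 59394, nat_lit 1, nat_lit 4, nat_lit 3, nat_lit 1, nat_lit 8, nat_lit 0, nat_lit 4, nat_lit 0, nat_lit 8])) (TL.node (TL.leaf [nat_lit 32771, nat_lit 7, nat_lit 4, nat_lit 7, nat_lit 4]) (TL.leaf [nat_lit 63541, nat_lit 1, nat_lit 5, nat_lit 4, nat_lit 8, nat_lit 1, nat_lit 7, nat_lit 8, nat_lit 4, nat_lit 6, nat_lit 4, nat_lit 8, nat_lit 7, nat_lit 1, nat_lit 8, nat_lit 4, nat_lit 5, nat_lit 1, nat_lit 5, nat_lit 4, nat_lit 1, nat_lit 6, nat_lit 1, nat_lit 6, nat_lit 4, nat_lit 7, nat_lit 0, nat_lit 6, nat_lit 7, nat_lit 5])))) (TL.node (TL.node (TL.node (TL.leaf [nat_lit 55301, nat_lit 6, nat_lit 2, nat_lit 8, nat_lit 6, nat_lit 2, nat_lit 8]) (TL.leaf [nat_lit 30721, nat_lit 3, nat_lit 7, nat_lit 2, nat_lit 7, nat_lit 2, nat_lit 7])) (TL.node (TL.leaf [nat_lit 14337, nat_lit 3, nat_lit 5, nat_lit 2, nat_lit 5, nat_lit 2, nat_lit 5]) (TL.leaf [nat_lit 43021, nat_lit 2, nat_lit 6,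 nat_lit 1, nat_lit 7, nat_lit 1, nat_lit 6, nat_lit 3, nat_lit 7, nat_lit 1]))) (TL.node (TL.node (TL.leaf [nat_lit 20482, nat_lit 6, nat_lit 3, nat_lit 6, nat_lit 3, nat_lit 6, nat_lit 3]) (TL.leaf [nat_lit 59400, nat_lit 1, nat_lit 8, nat_lit 0, nat_lit 4, nat_lit 0, nat_lit 8, nat_lit 1, nat_lit 4, nat_lit 3])) (TL.leaf [nat_lit 24591, nat_lit 4, nat_lit 0, nat_lit 1, nat_lit 6, nat_lit 1, nat_lit 4, nat_lit 1, nat_lit 6, nat_lit 0, nat_lit 1]))))))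
def W_t2 : TL := (TL.node (TL.node (TL.node (TL.node (TL.node (TL.node (TL.leaf [nat_lit 47105, nat_lit 3, nat_lit 8, nat_lit 2, nat_lit 8]) (TL.leaf [nat_lit 10244, nat_lit 2, nat_lit 4, nat_lit 3, nat_lit 4])) (TL.node (TL.leaf [nat_lit 1, nat_lit 3, nat_lit 2, nat_lit 2]) (TL.leaf [nat_lit 61447, nat_lit 0, nat_lit 8, nat_lit 2, nat_lit 0, nat_lit 7, nat_lit 0, nat_lit 8, nat_lit 0, nat_lit 7]))) (TL.node (TL.node (TL.leaf [nat_lit 38915, nat_lit 3, nat_lit 7, nat_lit 1, nat_lit 2, nat_lit 7, nat_lit 1]) (TL.leaf [nat_lit 36865, nat_lit 6, nat_lit 7, nat_lit 6, nat_lit 7, nat_lit 6, nat_lit 7])) (TL.node (TL.leaf [nat_lit 59401, nat_lit 8, nat_lit 1, nat_lit 2, nat_lit 4, nat_lit 1, nat_lit 8, nat_lit 0, nat_lit 4, nat_lit 0]) (TL.leaf [nat_lit 26626, nat_lit 2, nat_lit 5, nat_lit 3, nat_lit 6, nat_lit 3, nat_lit 5, nat_lit 3, nat_lit 6])))) (TL.node (TL.node (TL.node (TL.leaf [nat_lit 10241,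 nat_lit 3, nat_lit 4, nat_lit 2, nat_lit 4]) (TL.leaf [nat_lit 49158, nat_lit 0, nat_lit 8, nat_lit 3, nat_lit 0, nat_lit 8, nat_lit 3, nat_lit 0, nat_lit 8, nat_lit 3])) (TL.node (TL.leaf [nat_lit 6146, nat_lit 0, nat_lit 1, nat_lit 2, nat_lit 0, nat_lit 3]) (TL.leaf [nat_lit 57350, nat_lit 6, nat_lit 8, nat_lit 7, nat_lit 6, nat_lit 8, nat_lit 7, nat_lit 6, nat_lit 8, nat_lit 7, nat_lit 6, nat_lit 8, nat_lit 7, nat_lit 6, nat_lit 8, nat_lit 7]))) (TL.node (TL.node (TL.leaf [nat_lit 6151, nat_lit 1, nat_lit 0, nat_lit 2, nat_lit 0, nat_lit 3]) (TL.leaf [nat_lit 6145, nat_lit 3, nat_lit 0, nat_lit 3, nat_lit 1, nat_lit 0])) (TL.leaf [nat_lit 20481, nat_lit 3, nat_lit 6, nat_lit 2, nat_lit 6, nat_lit 2, nat_lit 6])))) (TL.node (TL.node (TL.node (TL.node (TL.leaf [nat_lit 16385, nat_lit 4, nat_lit 5, nat_lit 4, nat_lit 5]) (TL.leaf [nat_lit 61448, nat_lit 2, nat_lit 8, nat_lit 0, nat_lit 7, nat_lit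 0, nat_lit 8, nat_lit 0, nat_lit 7, nat_lit 0])) (TL.node (TL.leaf [nat_lit 30724, nat_lit 2, nat_lit 7, nat_lit 3, nat_lit 7, nat_lit 3, nat_lit 7]) (TL.leaf [nat_lit 57347, nat_lit 7, nat_lit 8, nat_lit 6, nat_lit 7, nat_lit 8, nat_lit 6, nat_lit 7, nat_lit 8, nat_lit 6, nat_lit 7, nat_lit 8, nat_lit 6, nat_lit 7, nat_lit 8, nat_lit 6]))) (TL.node (TL.node (TL.leaf [nat_lit 12291, nat_lit 5, nat_lit 0, nat_lit 5, nat_lit 0]) (TL.leaf [nat_lit 6149, nat_lit 2, nat_lit 1, nat_lit 0, nat_lit 2, nat_lit 0])) (TL.node (TL.leaf [nat_lit 47107, nat_lit 8, nat_lit 2, nat_lit 8, nat_lit 2]) (TL.leaf [nat_lit 57349, nat_lit 8, nat_lit 6, nat_lit 7, nat_lit 8, nat_lit 6, nat_lit 7, nat_lit 8, nat_lit 6, nat_lit 7, nat_lit 8, nat_lit 6, nat_lit 7, nat_lit 8, nat_lit 6, nat_lit 7])))) (TL.node (TL.node (TL.node (TL.leaf [nat_lit 53253, nat_lit 5, nat_lit 2, nat_lit 8, nat_lit 5, nat_lit 2, nat_lit 8])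 (TL.leaf [nat_lit 30723, nat_lit 7, nat_lit 2, nat_lit 7, nat_lit 2, nat_lit 7, nat_lit 2])) (TL.node (TL.leaf [nat_lit 38918, nat_lit 1, nat_lit 7, nat_lit 3, nat_lit 1, nat_lit 7, nat_lit 3]) (TL.leaf [nat_lit 63493, nat_lit 7, nat_lit 8, nat_lit 4, nat_lit 6, nat_lit 4, nat_lit 8, nat_lit 7, nat_lit 1, nat_lit 8, nat_lit 4, nat_lit 5, nat_lit 1, nat_lit 5, nat_lit 4, nat_lit 1, nat_lit 6, nat_lit 1, nat_lit 6, nat_lit 4, nat_lit 7, nat_lit 0, nat_lit 6, nat_lit 7, nat_lit 5, nat_lit 1, nat_lit 5, nat_lit 4, nat_lit 8, nat_lit 1]))) (TL.node (TL.node (TL.leaf [nat_lit 36867, nat_lit 7, nat_lit 6, nat_lit 7, nat_lit 6, nat_lit 7, nat_lit 6]) (TL.leaf [nat_lit 43013, nat_lit 6, nat_lit 3, nat_lit 7, nat_lit 1, nat_lit 3, nat_lit 6, nat_lit 1, nat_lit 7, nat_lit 1])) (TL.leaf [nat_lit 61441, nat_lit 8, nat_lit 0, nat_lit 7, nat_lit 0, nat_lit 8, nat_lit 2, nat_lit 0, nat_lit 7, nat_lit 0])))))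 (TL.node (TL.node (TL.node (TL.node (TL.node (TL.leaf [nat_lit 32769, nat_lit 4, nat_lit 7, nat_lit 4, nat_lit 7]) (TL.leaf [nat_lit 55297, nat_lit 3, nat_lit 8, nat_lit 6, nat_lit 2, nat_lit 8, nat_lit 6])) (TL.node (TL.leaf [nat_lit 14340, nat_lit 2, nat_lit 5, nat_lit 3, nat_lit 5, nat_lit 3, nat_lit 5]) (TL.leaf [nat_lit 53254, nat_lit 2, nat_lit 5, nat_lit 8, nat_lit 3, nat_lit 5, nat_lit 8]))) (TL.node (TL.node (TL.leaf [nat_lit 22529, nat_lit 4, nat_lit 6, nat_lit 4, nat_lit 6, nat_lit 4, nat_lit 6]) (TL.leaf [nat_lit 59396, nat_lit 4, nat_lit 3, nat_lit 1, nat_lit 8, nat_lit 0, nat_lit 4, nat_lit 0, nat_lit 8, nat_lit 1])) (TL.node (TL.leaf [nat_lit 43009, nat_lit 7, nat_lit 1, nat_lit 6, nat_lit 3, nat_lit 7, nat_lit 1, nat_lit 3, nat_lit 6, nat_lit 1]) (TL.leaf [nat_lit 45075, nat_lit 6, nat_lit 5, nat_lit 1, nat_lit 7, nat_lit 6, nat_lit 1, nat_lit 5, nat_lit 6, nat_lit 1, nat_lit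 5, nat_lit 7, nat_lit 1])))) (TL.node (TL.node (TL.node (TL.leaf [nat_lit 10243, nat_lit 4, nat_lit 2, nat_lit 4, nat_lit 2]) (TL.leaf [nat_lit 6148, nat_lit 1, nat_lit 2, nat_lit 0, nat_lit 3, nat_lit 0])) (TL.node (TL.leaf [nat_lit 55300, nat_lit 8, nat_lit 3, nat_lit 6, nat_lit 8, nat_lit 3, nat_lit 6]) (TL.leaf [nat_lit 45069, nat_lit 5, nat_lit 7, nat_lit 1, nat_lit 6, nat_lit 5, nat_lit 1, nat_lit 7, nat_lit 6, nat_lit 1, nat_lit 5, nat_lit 6, nat_lit 1]))) (TL.node (TL.node (TL.leaf [nat_lit 4098, nat_lit 2, nat_lit 0, nat_lit 3, nat_lit 0, nat_lit 3, nat_lit 0]) (TL.leaf [nat_lit 51205, nat_lit 8, nat_lit 1, nat_lit 3, nat_lit 8, nat_lit 1, nat_lit 3, nat_lit 8, nat_lit 1, nat_lit 3])) (TL.leaf [nat_lit 61449, nat_lit 8, nat_lit 2, nat_lit 0, nat_lit 7, nat_lit 0, nat_lit 8, nat_lit 0, nat_lit 7, nat_lit 0])))) (TL.node (TL.node (TL.node (TL.node (TL.leaf [nat_lit 61445, nat_lit 7, nat_lit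 0, nat_lit 8, nat_lit 2, nat_lit 0, nat_lit 7, nat_lit 0, nat_lit 8, nat_lit 0]) (TL.leaf [nat_lit 4097, nat_lit 0, nat_lit 2, nat_lit 0, nat_lit 2, nat_lit 0, nat_lit 2])) (TL.node (TL.leaf [nat_lit 26628, nat_lit 5, nat_lit 3, nat_lit 6, nat_lit 3, nat_lit 5, nat_lit 3, nat_lit 6, nat_lit 3]) (TL.leaf [nat_lit 51202, nat_lit 8, nat_lit 2, nat_lit 1, nat_lit 8, nat_lit 2, nat_lit 1, nat_lit 8, nat_lit 2, nat_lit 1]))) (TL.node (TL.node (TL.leaf [nat_lit 16387, nat_lit 5, nat_lit 4, nat_lit 5, nat_lit 4]) (TL.leaf [nat_lit 45077, nat_lit 5, nat_lit 1, nat_lit 7, nat_lit 6, nat_lit 1, nat_lit 5, nat_lit 6, nat_lit 1, nat_lit 5, nat_lit 7, nat_lit 1, nat_lit 6])) (TL.leaf [nat_lit 14338, nat_lit 5, nat_lit 3, nat_lit 5, nat_lit 3, nat_lit 5, nat_lit 3]))) (TL.node (TL.node (TL.node (TL.leaf [nat_lit 8193, nat_lit 0, nat_lit 4, nat_lit 0, nat_lit 4, nat_lit 0, nat_lit 4]) (TL.leaf [nat_lit 53250,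 nat_lit 5, nat_lit 8, nat_lit 3, nat_lit 5, nat_lit 8, nat_lit 3])) (TL.node (TL.leaf [nat_lit 22531, nat_lit 6, nat_lit 4, nat_lit 6, nat_lit 4, nat_lit 6, nat_lit 4]) (TL.leaf [nat_lit 61446, nat_lit 0, nat_lit 3, nat_lit 8, nat_lit 0, nat_lit 7, nat_lit 0, nat_lit 8, nat_lit 0, nat_lit 7]))) (TL.node (TL.node (TL.leaf [nat_lit 8195, nat_lit 4, nat_lit 0, nat_lit 4, nat_lit 0, nat_lit 4, nat_lit 0]) (TL.leaf [nat_lit 4099, nat_lit 3, nat_lit 0, nat_lit 2, nat_lit 0, nat_lit 2, nat_lit 0])) (TL.leaf [nat_lit 45059, nat_lit 6, nat_lit 1, nat_lit 5, nat_lit 6, nat_lit 1, nat_lit 5, nat_lit 7, nat_lit 1, nat_lit 6, nat_lit 5, nat_lit 1, nat_lit 7]))))))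
def W_t : TL := (TL.node W_t1 W_t2)
noncomputable def W (i : ℕ) : List ℕ := TL.get W_t i
def WA_t : TL := (TL.leaf [nat_lit 0])
noncomputable def WA (i : ℕ) : List ℕ := TL.get WA_t i
noncomputable def row : ℕ → ℕ := hRow (nat_lit 119) (nat_lit 9) (nat_lit 8) (nat_lit 128) (nat_lit 128) (nat_lit 16384) (nat_lit 2048) (nat_lit 2048) (nat_lit 0) E X Pa inv (wfun (nat_lit 119) W_t)
noncomputable def aux : ℕ → ℕ := hAux (nat_lit 120) (nat_lit 9) (nat_lit 128) (nat_lit 16384) (nat_lit 2048) (nat_lit 2) (nat_lit 2) (nat_lit 2048) (nat_lit 0) E X J Pa inv WA_t.get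
theorem r0 : Nat.beq (rng row (nat_lit 0) (nat_lit 120)) (nat_lit 0) = true := by decide +kernel
theorem rows : ∀ i < 120, row i = 0 := by
  have h := zero_lt_zero row
  have h := zero_lt_add (a := (nat_lit 0)) (n := (nat_lit 120)) (b := (nat_lit 120)) h r0 rfl
  exact h
theorem auxs : ∀ i < 0, aux i = 0 := by
  have h := zero_lt_zero aux
  exact h
theorem closes.{u} : ClosesT.{u} inv rels 9 8 120 T :=
  hc_closes (N1 := (nat_lit 119)) rfl T_eq (by decide +kernel) rows auxs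
theorem T_inv : ∀ c < 120, ∀ j < 9, T j c < 120 ∧ T (inv j) (T j c) = c := 
  hc_inv (inv := inv) (N1 := (nat_lit 119)) rfl T_eq rows
end L7

def rels : List (List ℕ) := [[nat_lit 2, nat_lit 2, nat_lit 2], [nat_lit 0, nat_lit 1, nat_lit 0, nat_lit 1], [nat_lit 0, nat_lit 2, nat_lit 0, nat_lit 2, nat_lit 0, nat_lit 2], [nat_lit 2, nat_lit 0, nat_lit 3, nat_lit 1, nat_lit 0], [nat_lit 0, nat_lit 4, nat_lit 0, nat_lit 4, nat_lit 0, nat_lit 4], [nat_lit 2, nat_lit 4, nat_lit 2, nat_lit 4], [nat_lit 0, nat_lit 5, nat_lit 0, nat_lit 5], [nat_lit 2, nat_lit 5, nat_lit 2, nat_lit 5, nat_lit 2, nat_lit 5], [nat_lit 4, nat_lit 5, nat_lit 4, nat_lit 5], [nat_lit 0, nat_lit 6, nat_lit 0, nat_lit 6], [nat_lit 2, nat_lit 6, nat_lit 2, nat_lit 6, nat_lit 2, nat_lit 6], [nat_lit 4, nat_lit 6, nat_lit 4, nat_lit 6, nat_lit 4, nat_lit 6], [nat_lit 6, nat_lit 1, nat_lit 4, nat_lit 1, nat_lit 6, nat_lit 0, nat_lit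 1, nat_lit 4, nat_lit 0, nat_lit 1], [nat_lit 6, nat_lit 2, nat_lit 5, nat_lit 2, nat_lit 6, nat_lit 2, nat_lit 5, nat_lit 2], [nat_lit 0, nat_lit 7, nat_lit 0, nat_lit 7, nat_lit 0, nat_lit 7], [nat_lit 2, nat_lit 7, nat_lit 2, nat_lit 7, nat_lit 2, nat_lit 7], [nat_lit 4, nat_lit 7, nat_lit 4, nat_lit 7], [nat_lit 5, nat_lit 7, nat_lit 5, nat_lit 7, nat_lit 5, nat_lit 7], [nat_lit 6, nat_lit 7, nat_lit 6, nat_lit 7, nat_lit 6, nat_lit 7], [nat_lit 1, nat_lit 2, nat_lit 7, nat_lit 1, nat_lit 2, nat_lit 7], [nat_lit 5, nat_lit 6, nat_lit 7, nat_lit 5, nat_lit 6, nat_lit 7, nat_lit 5, nat_lit 6, nat_lit 7, nat_lit 5, nat_lit 6, nat_lit 7], [nat_lit 7, nat_lit 1, nat_lit 6, nat_lit 3, nat_lit 7, nat_lit 1, nat_lit 3, nat_lit 6, nat_lit 1], [nat_lit 7, nat_lit 6, nat_lit 1, nat_lit 5, nat_lit 6, nat_lit 1, nat_lit 5, nat_lit 7, nat_lit 1, nat_lit 6, nat_lit 5, nat_lit 1], [nat_lit 2, nat_lit 8,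 nat_lit 2, nat_lit 8], [nat_lit 0, nat_lit 2, nat_lit 8, nat_lit 0, nat_lit 2, nat_lit 8, nat_lit 0, nat_lit 2, nat_lit 8], [nat_lit 1, nat_lit 3, nat_lit 8, nat_lit 1, nat_lit 3, nat_lit 8, nat_lit 1, nat_lit 3, nat_lit 8], [nat_lit 2, nat_lit 8, nat_lit 5, nat_lit 2, nat_lit 8, nat_lit 5], [nat_lit 2, nat_lit 8, nat_lit 6, nat_lit 2, nat_lit 8, nat_lit 6], [nat_lit 6, nat_lit 7, nat_lit 8, nat_lit 6, nat_lit 7, nat_lit 8, nat_lit 6, nat_lit 7, nat_lit 8, nat_lit 6, nat_lit 7, nat_lit 8, nat_lit 6, nat_lit 7, nat_lit 8], [nat_lit 8, nat_lit 0, nat_lit 4, nat_lit 0, nat_lit 8, nat_lit 1, nat_lit 2, nat_lit 4, nat_lit 1], [nat_lit 8, nat_lit 0, nat_lit 7, nat_lit 0, nat_lit 8, nat_lit 2, nat_lit 0, nat_lit 7, nat_lit 0], [nat_lit 8, nat_lit 1, nat_lit 7, nat_lit 8, nat_lit 4, nat_lit 6, nat_lit 4, nat_lit 8, nat_lit 7, nat_lit 1, nat_lit 8, nat_lit 4, nat_lit 5, nat_lit 1, nat_lit 5, nat_lit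 4, nat_lit 1, nat_lit 6, nat_lit 1, nat_lit 6, nat_lit 4, nat_lit 7, nat_lit 0, nat_lit 6, nat_lit 7, nat_lit 5, nat_lit 1, nat_lit 5, nat_lit 4]]
def inv (i : ℕ) : ℕ := Nat.land (Nat.shiftRight (nat_lit 0x876542310) (Nat.mul (nat_lit 4) i)) (nat_lit 15)
theorem ub1 {Γ : Type} [Group Γ] {g : ℕ → Γ} (h1 : InvOK g inv 9) (h2 : ∀ w ∈ rels, ev g w = 1) : CardLE (gen g 1) 2 :=
  tw h1 h2 L1.closes (by decide +kernel) (cardLE_gen_zero g)
theorem ub4 {Γ : Type} [Group Γ] {g : ℕ → Γ} (h1 : InvOK g inv 9) (h2 : ∀ w ∈ rels, ev g w = 1) : CardLE (gen g 4) 12 :=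
  tw h1 h2 L2.closes (by decide +kernel) (ub1 h1 h2)
theorem ub5 {Γ : Type} [Group Γ] {g : ℕ → Γ} (h1 : InvOK g inv 9) (h2 : ∀ w ∈ rels, ev g w = 1) : CardLE (gen g 5) 60 :=
  tw h1 h2 L3.closes (by decide +kernel) (ub4 h1 h2)
theorem ub6 {Γ : Type} [Group Γ] {g : ℕ → Γ} (h1 : InvOK g inv 9) (h2 : ∀ w ∈ rels, ev g w = 1) : CardLE (gen g 6) 960 :=
  tw h1 h2 L4.closes (by decide +kernel) (ub5 h1 h2)
theorem ub7 {Γ : Type} [Group Γ] {g : ℕ → Γ} (h1 : InvOK g inv 9) (h2 : ∀ w ∈ rels, ev g w = 1) : CardLE (gen g 7) 25920 :=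
  tw h1 h2 L5.closes (by decide +kernel) (ub6 h1 h2)
theorem ub8 {Γ : Type} [Group Γ] {g : ℕ → Γ} (h1 : InvOK g inv 9) (h2 : ∀ w ∈ rels, ev g w = 1) : CardLE (gen g 8) 1451520 :=
  tw h1 h2 L6.closes (by decide +kernel) (ub7 h1 h2)
theorem ub9 {Γ : Type} [Group Γ] {g : ℕ → Γ} (h1 : InvOK g inv 9) (h2 : ∀ w ∈ rels, ev g w = 1) : CardLE (gen g 9) 174182400 :=
  tw h1 h2 L7.closes (by decide +kernel) (ub8 h1 h2)

end Cfsg.Agent.Ct.O82
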