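import Cfsg.Agent.Lib.Cert.O82.M
import Cfsg.Agent.Lib.Cert.Lin3
import Cfsg.Agent.S0293

set_option autoImplicit false
set_option maxRecDepth 100000

namespace Cfsg.Agent.Ct.O82

open Cfsg.Agent.PC

open Cfsg.Agent.Fi Cfsg.Agent.Ct
def Ct1 : TN := (TN.node (TN.node (TN.node (TN.node (TN.leaf (nat_lit 0x100000000000000010000000000000000000000000000000000000001)) (TN.leaf (nat_lit 0x10000000100000000000000000000000100000001))) (TN.leaf (nat_lit 0x1000000000000000000000000000000000000000100000001))) (TN.node (TN.leaf (nat_lit 0x1000000010000000100000000000000000000000000000000)) (TN.leaf (nat_lit 0x100000000000000010000000100000000000000010000000000000000)))) (TN.node (TN.node (TN.node (TN.leaf (nat_lit 0x100000000000000010000000000000000000000000000000000000001)) (TN.leaf (nat_lit 1))) (TN.leaf (nat_lit 0x100000000000000000000000000000000000000000000000000000001))) (TN.node (TN.leaf (nat_lit 0x100000000000000010000000100000000000000010000000000000000)) (TN.leaf (nat_lit 0x100000000000000010000000100000000000000010000000000000000)))))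
def Ct2 : TN := (TN.node (TN.node (TN.node (TN.node (TN.leaf (nat_lit 0x100000000000000010000000100000000000000000000000000000000)) (TN.leaf (nat_lit 0x100000000000000000000000000000000))) (TN.leaf (nat_lit 0x1000000000000000100000000000000000000000100000000))) (TN.node (TN.leaf (nat_lit 0x1000000010000000000000000000000000000000000000001)) (TN.leaf (nat_lit 0x100000000000000010000000000000000000000010000000000000001)))) (TN.node (TN.node (TN.node (TN.leaf (nat_lit 0x100000000000000010000000100000000000000000000000000000000)) (TN.leaf (nat_lit 0x100000000000000000000000000000000))) (TN.leaf (nat_lit 0x100000000000000000000000100000000000000000000000000000000))) (TN.node (TN.leaf (nat_lit 0x100000000000000010000000000000000000000010000000000000001)) (TN.leaf (nat_lit 0x100000000000000010000000000000000000000010000000000000001)))))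
def Ct3 : TN := (TN.node Ct1 Ct2)
def Ct4 : TN := (TN.node (TN.node (TN.node (TN.node (TN.leaf (nat_lit 0x10000000000000000)) (TN.leaf (nat_lit 0x100000001000000000000000000000000000000000000000000000000))) (TN.leaf (nat_lit 0x100000001000000010000000100000000000000000000000100000001))) (TN.node (TN.leaf (nat_lit 0x100000001000000000000000000000000000000000000000000000000)) (TN.leaf (nat_lit 0x10000000000000000)))) (TN.node (TN.node (TN.node (TN.leaf (nat_lit 0x100000000000000010000000000000000000000010000000000000000)) (TN.leaf (nat_lit 0x10000000000000000))) (TN.leaf (nat_lit 0x10000000000000000))) (TN.node (TN.leaf (nat_lit 0x1000000010000000100000000000000010000000000000001)) (TN.leaf (nat_lit 0x1000000010000000000000001000000000000000000000000)))))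
def Ct5 : TN := (TN.node (TN.node (TN.node (TN.node (TN.leaf (nat_lit 0x100000001000000010000000000000000000000000000000000000000)) (TN.leaf (nat_lit 0x100000000000000000000000000000000000000010000000000000000))) (TN.leaf (nat_lit 0x100000000))) (TN.node (TN.leaf (nat_lit 0x100000001000000010000000100000000000000010000000000000001)) (TN.leaf (nat_lit 0x100000001000000010000000100000000000000010000000000000001)))) (TN.node (TN.node (TN.node (TN.leaf (nat_lit 0x1000000000000000000000000000000000000000000000000)) (TN.leaf (nat_lit 0x1000000000000000000000000000000000000000000000000))) (TN.leaf (nat_lit 0x100000001000000000000000000000000000000000000000000000000))) (TN.node (TN.leaf (nat_lit 0x100000000000000000000000000000000000000010000000000000000)) (TN.leaf (nat_lit 0x100000000000000000000000100000001000000000000000000000001)))))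
def Ct6 : TN := (TN.node Ct4 Ct5)
def Ct7 : TN := (TN.node Ct3 Ct6)
def Ct8 : TN := (TN.node (TN.node (TN.node (TN.node (TN.leaf (nat_lit 0x100000000000000010000000100000000000000010000000100000001)) (TN.leaf (nat_lit 0x10000000100000000000000000000000000000000))) (TN.leaf (nat_lit 0x1000000000000000000000000000000000000000000000000))) (TN.node (TN.leaf (nat_lit 0x1000000010000000100000000000000000000000100000001)) (TN.leaf (nat_lit 0x100000000000000000000000100000001000000010000000000000001)))) (TN.node (TN.node (TN.node (TN.leaf (nat_lit 0x1000000010000000100000000000000000000000100000001)) (TN.leaf (nat_lit 0x100000000))) (TN.leaf (nat_lit 0x100000000000000000000000000000000000000000000000100000000))) (TN.node (TN.leaf (nat_lit 0x100000000000000010000000100000000000000010000000100000001)) (TN.leaf (nat_lit 0x100000001000000000000000100000001000000000000000100000001)))))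
def Ct9 : TN := (TN.node (TN.node (TN.node (TN.node (TN.leaf (nat_lit 0x10000000000000000000000000000000000000000)) (TN.leaf (nat_lit 0x100000000000000000000000100000000))) (TN.leaf (nat_lit 0x100000001000000000000000100000000000000010000000100000001))) (TN.node (TN.leaf (nat_lit 0x10000000000000000000000000000000000000000)) (TN.leaf (nat_lit 0x1000000000000000100000000)))) (TN.node (TN.node (TN.node (TN.leaf (nat_lit 0x10000000000000000000000000000000000000000)) (TN.leaf (nat_lit 0x10000000000000000000000000000000000000000))) (TN.leaf (nat_lit 0x10000000000000000000000000000000000000000))) (TN.node (TN.leaf (nat_lit 0x10000000000000000000000000000000000000000)) (TN.leaf (nat_lit 0x10000000000000000000000000000000000000000)))))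
def Ct10 : TN := (TN.node Ct8 Ct9)
def Ct11 : TN := (TN.node (TN.node (TN.node (TN.node (TN.leaf (nat_lit 0x100000000000000010000000100000001000000010000000000000001)) (TN.leaf (nat_lit 0x100000001000000000000000000000001000000010000000000000000))) (TN.leaf (nat_lit 0x1000000000000000000000001000000000000000100000000))) (TN.node (TN.leaf (nat_lit 0x100000000000000010000000100000001000000010000000000000001)) (TN.leaf (nat_lit 0x100000000000000010000000100000001000000010000000000000001)))) (TN.node (TN.node (TN.node (TN.leaf (nat_lit 0x100000001000000000000000100000001000000000000000000000001)) (TN.leaf (nat_lit 0x1000000000000000000000000))) (TN.leaf (nat_lit 0x100000000000000010000000100000001000000010000000000000001))) (TN.node (TN.leaf (nat_lit 0x100000001000000000000000000000001000000010000000000000000)) (TN.leaf (nat_lit 0x100000000000000010000000100000001000000010000000000000001)))))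
def Ct12 : TN := (TN.node (TN.node (TN.node (TN.node (TN.leaf (nat_lit 0x100000000000000000000000000000000000000000000000000000000)) (TN.leaf (nat_lit 0x100000000000000000000000000000000000000000000000000000000))) (TN.leaf (nat_lit 0x100000000000000000000000000000000000000000000000000000000))) (TN.node (TN.leaf (nat_lit 0x100000000000000000000000000000000000000000000000000000000)) (TN.leaf (nat_lit 0x100000000000000010000000000000001000000000000000100000000)))) (TN.node (TN.node (TN.node (TN.leaf (nat_lit 0x100000000000000000000000000000000000000000000000000000000)) (TN.leaf (nat_lit 0x100000000000000000000000000000000000000000000000000000000))) (TN.leaf (nat_lit 0x100000000000000000000000000000000000000000000000000000000))) (TN.node (TN.leaf (nat_lit 0x100000000000000000000000000000000000000000000000000000000)) (TN.leaf (nat_lit 0x100000001000000010000000000000001000000010000000000000000)))))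
def Ct13 : TN := (TN.node Ct11 Ct12)
def Ct14 : TN := (TN.node Ct10 Ct13)
def Ct : TN := (TN.node Ct7 Ct14)
noncomputable def C (j i : ℕ) : ℕ := TN.get Ct (Nat.add (Nat.mul j (nat_lit 8)) i)
def ix : Fin 4 ⊕ Fin 4 → ℕ := Sum.elim Fin.val fun i => 4 + i.val
noncomputable def M (j : ℕ) : Matrix (Fin 4 ⊕ Fin 4) (Fin 4 ⊕ Fin 4) (ZMod 2) := mx ix 1 1 (C j)
def nv (i : ℕ) : ℕ := Nat.land (Nat.shiftRight (nat_lit 0x876542310) (Nat.mul (nat_lit 4) i)) (nat_lit 15)
def ws : List (List ℕ × ℕ) := [([nat_lit 2, nat_lit 2, nat_lit 2], (nat_lit 9)), ([nat_lit 0, nat_lit 1, nat_lit 0, nat_lit 1], (nat_lit 9)), ([nat_lit 0, nat_lit 2, nat_lit 0, nat_lit 2, nat_lit 0, nat_lit 2], (nat_lit 9)), ([nat_lit 2, nat_lit 0, nat_lit 3, nat_lit 1, nat_lit 0], (nat_lit 9)), ([nat_lit 0, nat_lit 4, nat_lit 0, nat_lit 4, nat_lit 0, nat_lit 4], (nat_lit 9)), ([nat_lit 2, nat_lit 4, nat_lit 2, nat_lit 4], (nat_lit 9)), ([nat_lit 0, nat_lit 5, nat_lit 0, nat_lit 5], (nat_lit 9)), ([nat_lit 2, nat_lit 5, nat_lit 2, nat_lit 5, nat_lit 2, nat_lit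 5], (nat_lit 9)), ([nat_lit 4, nat_lit 5, nat_lit 4, nat_lit 5], (nat_lit 9)), ([nat_lit 0, nat_lit 6, nat_lit 0, nat_lit 6], (nat_lit 9)), ([nat_lit 2, nat_lit 6, nat_lit 2, nat_lit 6, nat_lit 2, nat_lit 6], (nat_lit 9)), ([nat_lit 4, nat_lit 6, nat_lit 4, nat_lit 6, nat_lit 4, nat_lit 6], (nat_lit 9)), ([nat_lit 6, nat_lit 1, nat_lit 4, nat_lit 1, nat_lit 6, nat_lit 0, nat_lit 1, nat_lit 4, nat_lit 0, nat_lit 1], (nat_lit 9)), ([nat_lit 6, nat_lit 2, nat_lit 5, nat_lit 2, nat_lit 6, nat_lit 2, nat_lit 5, nat_lit 2], (nat_lit 9)), ([nat_lit 0, nat_lit 7, nat_lit 0, nat_lit 7, nat_lit 0, nat_lit 7], (nat_lit 9)), ([nat_lit 2, nat_lit 7, nat_lit 2, nat_lit 7, nat_lit 2, nat_lit 7], (nat_lit 9)), ([nat_lit 4, nat_lit 7, nat_lit 4, nat_lit 7], (nat_lit 9)), ([nat_lit 5, nat_lit 7, nat_lit 5, nat_lit 7, nat_lit 5, nat_lit 7], (nat_lit 9)), ([nat_lit 6, nat_lit 7, nat_lit 6, nat_lit 7, nat_lit 6, nat_lit 7], (nat_lit 9)), ([nat_lit 1, nat_lit 2, nat_lit 7, nat_lit 1, nat_lit 2, nat_lit 7], (nat_lit 9)), ([nat_lit 5,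 nat_lit 6, nat_lit 7, nat_lit 5, nat_lit 6, nat_lit 7, nat_lit 5, nat_lit 6, nat_lit 7, nat_lit 5, nat_lit 6, nat_lit 7], (nat_lit 9)), ([nat_lit 7, nat_lit 1, nat_lit 6, nat_lit 3, nat_lit 7, nat_lit 1, nat_lit 3, nat_lit 6, nat_lit 1], (nat_lit 9)), ([nat_lit 7, nat_lit 6, nat_lit 1, nat_lit 5, nat_lit 6, nat_lit 1, nat_lit 5, nat_lit 7, nat_lit 1, nat_lit 6, nat_lit 5, nat_lit 1], (nat_lit 9)), ([nat_lit 2, nat_lit 8, nat_lit 2, nat_lit 8], (nat_lit 9)), ([nat_lit 0, nat_lit 2, nat_lit 8, nat_lit 0, nat_lit 2, nat_lit 8, nat_lit 0, nat_lit 2, nat_lit 8], (nat_lit 9)), ([nat_lit 1, nat_lit 3, nat_lit 8, nat_lit 1, nat_lit 3, nat_lit 8, nat_lit 1, nat_lit 3, nat_lit 8], (nat_lit 9)), ([nat_lit 2, nat_lit 8, nat_lit 5, nat_lit 2, nat_lit 8, nat_lit 5], (nat_lit 9)), ([nat_lit 2, nat_lit 8, nat_lit 6, nat_lit 2, nat_lit 8, nat_lit 6], (nat_lit 9)), ([nat_lit 6, nat_lit 7, nat_lit 8, nat_lit 6, nat_lit 7, nat_lit 8, nat_lit 6, nat_lit 7, nat_lit 8, nat_lit 6, nat_lit 7, nat_lit 8, nat_lit 6, nat_lit 7, nat_lit 8],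 (nat_lit 9)), ([nat_lit 8, nat_lit 0, nat_lit 4, nat_lit 0, nat_lit 8, nat_lit 1, nat_lit 2, nat_lit 4, nat_lit 1], (nat_lit 9)), ([nat_lit 8, nat_lit 0, nat_lit 7, nat_lit 0, nat_lit 8, nat_lit 2, nat_lit 0, nat_lit 7, nat_lit 0], (nat_lit 9)), ([nat_lit 8, nat_lit 1, nat_lit 7, nat_lit 8, nat_lit 4, nat_lit 6, nat_lit 4, nat_lit 8, nat_lit 7, nat_lit 1, nat_lit 8, nat_lit 4, nat_lit 5, nat_lit 1, nat_lit 5, nat_lit 4, nat_lit 1, nat_lit 6, nat_lit 1, nat_lit 6, nat_lit 4, nat_lit 7, nat_lit 0, nat_lit 6, nat_lit 7, nat_lit 5, nat_lit 1, nat_lit 5, nat_lit 4], (nat_lit 9)), ([nat_lit 0, nat_lit 0], (nat_lit 9)), ([nat_lit 1, nat_lit 1], (nat_lit 9)), ([nat_lit 2, nat_lit 3], (nat_lit 9)), ([nat_lit 3, nat_lit 2], (nat_lit 9)), ([nat_lit 4, nat_lit 4], (nat_lit 9)), ([nat_lit 5, nat_lit 5], (nat_lit 9)), ([nat_lit 6, nat_lit 6], (nat_lit 9)), ([nat_lit 7, nat_lit 7], (nat_lit 9)), ([nat_lit 8, nat_lit 8], (nat_lit 9))]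
theorem lm : Lm ix 1 2 1 8 M C 10 := ⟨by decide +kernel, by decide +kernel, by decide +kernel, by decide +kernel⟩
theorem hw : allE (fun w => Nat.add (Nat.add (lettE 9 w.1) (Nat.add (ltE w.2 10) (Nat.sub 9 w.2))) (eqL 2 1 8 10 C w.1 [w.2])) ws = 0 := by decide +kernel
theorem pq : Pr al inv rels 9 := ⟨simple, ctr, top, ub, iv, rl, by decide +kernel⟩
theorem iso {F : Type*} [Field F] [Fintype F] (hF : Fintype.card F = 2) : Nonempty (P ≃* POmega F (quadFormPlus 4 F)) := by
  obtain ⟨f⟩ := exK (K := (ZMod 2)) rfl hF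
  refine iso_card (lm.emb f pq (lm.let f (n := nv) (by decide +kernel) fun j hj => mem_O qP_eq ((by decide +kernel : ∀ j < 9, (M j).transpose * qP 4 (ZMod 2) * M j + (upp ix ((M j).transpose * qP 4 (ZMod 2) * M j - qP 4 (ZMod 2))).transpose = qP 4 (ZMod 2) + upp ix ((M j).transpose * qP 4 (ZMod 2) * M j - qP 4 (ZMod 2))) j hj)) (.inl ⟨0, by decide⟩) (by decide +kernel) hw 0 2 (.inl ⟨2, by decide⟩) (.inl ⟨1, by decide⟩) (by decide +kernel) Subtype.val_injective le_sub) card ?_
  have := S0293.result hF 4 le_rfl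
  norm_num [Fin.prod_univ_succ, Finset.prod_range_succ, Nat.even_iff] at this
  omega

end Cfsg.Agent.Ct.O82
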